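import Groth.Agent.BMCohLib.Conseq

/-!
# Restriction over several codimensions through the closed subschemes of a given codimension
-/

set_option autoImplicit false
set_option linter.unusedSectionVars false

universe u

open AlgebraicGeometry CategoryTheory CategoryTheory.Limits Opposite TopologicalSpace

noncomputable section

namespace Groth.Agent.BMCohLib

variable {V : ObjectProperty Scheme.{u}} [BMCoh.IsConstructible V]

section geometry

variable (X : BMCoh.Obj V) {j m : ℕ}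

/-- a closed set of codimension `≥ j + 1` inside one of dimension `dim X - (j + 1)` -/
theorem exists_enlarge (C : Closeds X.scheme) (hC : ∀ y ∈ C, j + 1 ≤ WeilCoh.codim X.scheme y)
    (hj : j + 1 ≤ WeilCoh.dim X.scheme) :
    ∃ F : Closeds X.scheme, C ≤ F ∧ (∀ y ∈ F, j + 1 ≤ WeilCoh.codim X.scheme y) ∧
      WeilCoh.dim (clSub X F).scheme + (j + 1) = WeilCoh.dim X.scheme := by
  have : Nonempty X.scheme := by
    by_contra h
    have he := not_nonempty_iff.1 h
    have : WeilCoh.dim X.scheme ≤ 0 := dim_le_of_forall X 0 fun x => (h ⟨x⟩).elim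
    omega
  obtain ⟨x0, hx0⟩ := exists_pdim_eq X (k := WeilCoh.dim X.scheme - (j + 1)) (Nat.sub_le _ _)
  have hx0c : j + 1 = WeilCoh.codim X.scheme x0 := by
    unfold WeilCoh.codim; omega
  have hF : ∀ y ∈ C ⊔ ptC X x0, j + 1 ≤ WeilCoh.codim X.scheme y := by
    rintro y (hy | hy)
    · exact hC y hy
    · exact hx0c ▸ codim_of_mem_ptC X hy
  refine ⟨C ⊔ ptC X x0, le_sup_left, hF, ?_⟩
  have h1 : WeilCoh.dim (clSub X (C ⊔ ptC X x0)).scheme ≤ WeilCoh.dim X.scheme - (j + 1) := by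
    refine dim_le_of_forall _ _ fun z => ?_
    rw [← pdim_of_isClosedImmersion (X := clSub X (C ⊔ ptC X x0)) (Y := X) (clι X _) z]
    have h2 := hF _ (clι_mem X _ z)
    have := pdim_le_dim X (clι X (C ⊔ ptC X x0) z)
    unfold WeilCoh.codim at h2
    omega
  obtain ⟨z, hz⟩ := exists_clι_eq X (C ⊔ ptC X x0) (Or.inr (mem_ptC_self X x0))
  have h3 : WeilCoh.pdim X.scheme x0 ≤ WeilCoh.dim (clSub X (C ⊔ ptC X x0)).scheme := by
    refine le_of_eq_of_le ((congrArg (WeilCoh.pdim X.scheme) hz).symm.trans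
      (pdim_of_isClosedImmersion (X := clSub X (C ⊔ ptC X x0)) (Y := X) (clι X _) z))
      (pdim_le_dim _ z)
  omega

theorem containsFj_pc {F : Closeds X.scheme}
    (hF : WeilCoh.dim (clSub X F).scheme + (j + 1) = WeilCoh.dim X.scheme) {O : X.scheme.Opens}
    (hO : BMCoh.ContainsFj X (j + 1 + m) O) :
    BMCoh.ContainsFj (clSub X F) m (pc X F O) := fun z hz => by
  refine hO _ ?_
  rw [codim_le_iff, pdim_of_isClosedImmersion (X := clSub X F) (Y := X) (clι X F) z]
  rw [codim_le_iff] at hz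
  omega

theorem containsFj_of_containsFj_pc {F : Closeds X.scheme}
    (hF : WeilCoh.dim (clSub X F).scheme + (j + 1) = WeilCoh.dim X.scheme)
    {O O' : X.scheme.Opens} (hO : BMCoh.ContainsFj X (j + 1 + m) O)
    (hsub : oMinus X O F ≤ O') (hO' : BMCoh.ContainsFj (clSub X F) m (pc X F O')) :
    BMCoh.ContainsFj X (j + 1 + m) O' := fun y hy => by
  by_cases hyF : y ∈ F
  · obtain ⟨z, rfl⟩ := exists_clι_eq X F hyF
    refine hO' z ?_
    rw [codim_le_iff, pdim_of_isClosedImmersion (X := clSub X F) (Y := X) (clι X F) z] at hy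
    rw [codim_le_iff]
    omega
  · exact hsub ⟨hO y hy, hyF⟩

theorem relCodim_pcF {F : Closeds X.scheme}
    (hF : WeilCoh.dim (clSub X F).scheme + (j + 1) = WeilCoh.dim X.scheme) {O : X.scheme.Opens}
    (hO : BMCoh.ContainsFj X (j + 1 + m) O) :
    BMCoh.relCodim ((pc X F O : (clSub X F).scheme.Opens) : Scheme.{u}) (O : Scheme.{u}) =
      (j : ℤ) + 1 := by
  rw [BMCoh.relCodim, dim_eq_of_containsFj X hO,
    dim_eq_of_containsFj (clSub X F) (containsFj_pc X hF hO)]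
  omega

/-- an open of the reduced closed subscheme comes from an open of the object -/
theorem exists_pc_eq (F : Closeds X.scheme) (W : (clSub X F).scheme.Opens) :
    ∃ O : X.scheme.Opens, pc X F O = W := by
  obtain ⟨O, hO, hW⟩ := ((clι X F).isClosedEmbedding.isInducing.isOpen_iff).1 W.isOpen
  exact ⟨⟨O, hO⟩, Opens.ext hW⟩

end geometry

variable {R : Type u} [CommRing R] {A : BMCoh.Coefs R} (T : BMCoh.PreTheory V R A)
  (X : BMCoh.Obj V) {M : A.Cat} {i n i' n' : ℤ} {j m : ℕ}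

theorem fjRes_injective_closed
    (hZ : ∀ F : Closeds X.scheme,
      WeilCoh.dim (clSub X F).scheme + (j + 1) = WeilCoh.dim X.scheme →
        ∀ β : T.fjGp (clSub X F) m M i n, β = 0)
    (hi : i' = i + 2 * ((j : ℤ) + 1)) (hn : n' = n + ((j : ℤ) + 1)) (h : j ≤ j + 1 + m) :
    Function.Injective ((T.fjRes X h i' n').app M).hom := by
  refine (injective_iff_map_eq_zero _).2 fun ξ hξ => ?_
  obtain ⟨⟨U, hU, hUd⟩, a, rfl⟩ := oc_rep T i' n' M (idxDir_fj X (j + 1 + m)) ξ
  rw [fjRes_fjι] at hξ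
  obtain ⟨⟨W, hW, hWd⟩, hle, hW0⟩ := oc_eq_zero T (idxDir_fj X j)
    (U := fIdx X j U (BMCoh.containsFj_mono X h _ hU)) a hξ
  by_cases hd : j + 1 ≤ WeilCoh.dim X.scheme
  swap
  · have hWtop : BMCoh.ContainsFj X (j + 1 + m) W := fun y _ =>
      hW y ((Nat.sub_le _ _).trans (by omega))
    rw [← oc_ι_pull T (U := fIdx X (j + 1 + m) W hWtop) (U' := ⟨U, hU, hUd⟩) hle a]
    exact (congrArg _ hW0).trans (map_zero _)
  obtain ⟨F, hCF, hFc, hF⟩ := exists_enlarge X ⟨(W : Set X.scheme)ᶜ, W.isOpen.isClosed_compl⟩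
    (fun y hy => succ_le_codim_of_not_mem X hW hy) hd
  have hU' : BMCoh.ContainsFj X j (oMinus X U F) :=
    containsFj_oMinus X (BMCoh.containsFj_mono X h _ hU) hFc (Nat.lt_succ_self j)
  let D := cut X F (oMinus_le X U F) ((dim_eq_of_containsFj X hU').trans hUd.symm) rfl
  have hz : (T.pull D.j M i' n').hom a = 0 := by
    have hUW : oMinus X U F ≤ W := fun z hz => by_contra fun hzW => hz.2 (hCF hzW)
    rw [← pull_pull_eq T (X.resLE hUW ((dim_eq_of_containsFj X hU').trans hWd.symm))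
      (X.resLE hle (hWd.trans hUd.symm)) D.j (X.scheme.homOfLE_homOfLE hUW hle) a]
    exact (congrArg _ hW0).trans (map_zero _)
  obtain ⟨b, hb⟩ := exists_push_eq T D (i := i) (n := n)
    (by show _ = _ + 2 * BMCoh.relCodim _ _; rw [relCodim_pcF X hF hU]; exact hi)
    (by show _ = _ + BMCoh.relCodim _ _; rw [relCodim_pcF X hF hU]; exact hn) a hz
  obtain ⟨⟨W1, hW1, hW1d⟩, hle1, hW10⟩ := oc_eq_zero T (idxDir_fj (clSub X F) m)
    (U := fIdx (clSub X F) m (pc X F U) (containsFj_pc X hF hU)) b (hZ F hF _)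
  obtain ⟨O', rfl⟩ := exists_pc_eq X F W1
  let U1 : X.scheme.Opens := oMinus X U F ⊔ (U ⊓ O')
  have hU1U : U1 ≤ U := sup_le (oMinus_le X U F) inf_le_left
  have hU1 : BMCoh.ContainsFj X (j + 1 + m) U1 :=
    containsFj_of_containsFj_pc X hF hU le_sup_left fun z hz => Or.inr ⟨hle1 (hW1 z hz), hW1 z hz⟩
  have hp : pc X F U1 ≤ pc X F O' := fun z hz => by
    rcases hz with hz | hz
    · exact absurd (clι_mem X F z) hz.2
    · exact hz.2
  have hd1 := dim_eq_of_containsFj (clSub X F) (containsFj_pc X hF hU1)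
  have hd2 := dim_eq_of_containsFj (clSub X F) (containsFj_pc X hF hU)
  let g' : (clSub X F).res (pc X F U1) ⟶ (clSub X F).res (pc X F U) :=
    (clSub X F).resLE (pc_mono X F hU1U) (hd1.trans hd2.symm)
  have hb0 : (T.pull g' M i n).hom b = 0 := by
    rw [← pull_pull_eq T ((clSub X F).resLE hp (hd1.trans hW1d.symm))
      ((clSub X F).resLE hle1 (hW1d.trans hd2.symm)) g'
      ((clSub X F).scheme.homOfLE_homOfLE hp hle1) b]
    exact (congrArg _ hW10).trans (map_zero _)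
  rw [← oc_ι_pull T (U := fIdx X (j + 1 + m) U1 hU1) (U' := ⟨U, hU, hUd⟩) hU1U a]
  refine (congrArg _ ?_).trans (map_zero _)
  rw [← hb]
  refine (push_pull_apply T (X := (clSub X F).res (pc X F U)) (Y := X.res U)
    (X' := (clSub X F).res (pc X F U1)) (Y' := X.res U1) (pcι X F U) (pcι X F U1)
    (X.resLE hU1U ((dim_eq_of_containsFj X hU1).trans hUd.symm)) g'
    (isPullback_pcι X F hU1U) _ _
    (by show _ = _ + 2 * BMCoh.relCodim _ _; rw [relCodim_pcF X hF hU1]; exact hi)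
    (by show _ = _ + BMCoh.relCodim _ _; rw [relCodim_pcF X hF hU1]; exact hn) b).trans ?_
  rw [hb0, map_zero]

theorem fjRes_surjective_closed
    (hZ : ∀ F : Closeds X.scheme,
      WeilCoh.dim (clSub X F).scheme + (j + 1) = WeilCoh.dim X.scheme →
        ∀ β : T.fjGp (clSub X F) m M i' n', β = 0)
    (hi : i' = i + 1 - 2 * ((j : ℤ) + 1)) (hn : n' = n - ((j : ℤ) + 1)) (h : j ≤ j + 1 + m) :
    Function.Surjective ((T.fjRes X h i n).app M).hom := by
  intro ξ
  obtain ⟨⟨U, hU, hUd⟩, a, rfl⟩ := oc_rep T i n M (idxDir_fj X j) ξ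
  by_cases hd : j + 1 ≤ WeilCoh.dim X.scheme
  swap
  · have hU2 : BMCoh.ContainsFj X (j + 1 + m) U := fun y _ =>
      hU y ((Nat.sub_le _ _).trans (by omega))
    exact ⟨((T.fjι X (j + 1 + m) i n (fIdx X (j + 1 + m) U hU2)).app M).hom a,
      fjRes_fjι T X h (fIdx X (j + 1 + m) U hU2) a⟩
  obtain ⟨F, hCF, hFc, hF⟩ := exists_enlarge X ⟨(U : Set X.scheme)ᶜ, U.isOpen.isClosed_compl⟩
    (fun y hy => succ_le_codim_of_not_mem X hU hy) hd
  have hT : BMCoh.ContainsFj X (j + 1 + m) ⊤ := fun _ _ => trivial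
  have hU' : BMCoh.ContainsFj X j (oMinus X ⊤ F) :=
    containsFj_oMinus X (O := ⊤) (fun _ _ => trivial) hFc (Nat.lt_succ_self j)
  have hU'U : oMinus X ⊤ F ≤ U := fun z hz => by_contra fun hzU => hz.2 (hCF hzU)
  have d' := dim_eq_of_containsFj X hU'
  let a' := (T.pull (X.resLE hU'U (d'.trans hUd.symm)) M i n).hom a
  let D := cut X F (oMinus_le X ⊤ F) (d'.trans (dim_eq_of_containsFj X hT).symm) rfl
  have hiD : i' = i + 1 - 2 * D.codim := by
    show _ = _ - 2 * BMCoh.relCodim _ _; rw [relCodim_pcF X hF hT]; exact hi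
  have hnD : n' = n - D.codim := by
    show _ = _ - BMCoh.relCodim _ _; rw [relCodim_pcF X hF hT]; exact hn
  obtain ⟨⟨W1, hW1, hW1d⟩, hle1, hW10⟩ := oc_eq_zero T (idxDir_fj (clSub X F) m)
    (U := fIdx (clSub X F) m (pc X F ⊤) (containsFj_pc X hF hT))
    ((T.res D M i n i' n' hiD hnD).hom a') (hZ F hF _)
  obtain ⟨O', rfl⟩ := exists_pc_eq X F W1
  let O2 : X.scheme.Opens := oMinus X ⊤ F ⊔ O'
  have hO2 : BMCoh.ContainsFj X (j + 1 + m) O2 :=
    containsFj_of_containsFj_pc X hF hT le_sup_left fun z hz => Or.inr (hW1 z hz)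
  have d2 := dim_eq_of_containsFj X hO2
  have he : (oMinus X ⊤ F : Set X.scheme) = (O2 : Set X.scheme) \ F :=
    Set.ext fun z => ⟨fun hz => ⟨Or.inl hz, hz.2⟩, fun hz => ⟨trivial, hz.2⟩⟩
  have hp : pc X F O2 ≤ pc X F O' := fun z hz => by
    rcases hz with hz | hz
    · exact absurd (clι_mem X F z) hz.2
    · exact hz
  have hd1 := dim_eq_of_containsFj (clSub X F) (containsFj_pc X hF hO2)
  have hd2 := dim_eq_of_containsFj (clSub X F) (containsFj_pc X hF hT)
  let D2 := cut X F (le_sup_left : oMinus X ⊤ F ≤ O2) (d'.trans d2.symm) he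
  let gZ : (clSub X F).res (pc X F O2) ⟶ (clSub X F).res (pc X F ⊤) :=
    (clSub X F).resLE (pc_mono X F le_top) (hd1.trans hd2.symm)
  have hiD2 : i' = i + 1 - 2 * D2.codim := by
    show _ = _ - 2 * BMCoh.relCodim _ _; rw [relCodim_pcF X hF hO2]; exact hi
  have hnD2 : n' = n - D2.codim := by
    show _ = _ - BMCoh.relCodim _ _; rw [relCodim_pcF X hF hO2]; exact hn
  have hr := res_pull_apply T D D2 (X.resLE (le_top : O2 ≤ ⊤) (d2.trans (dim_eq_of_containsFj X hT).symm))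
    gZ (𝟙 _) (isPullback_pcι X F (le_top : O2 ≤ ⊤)).w
    (by
      show 𝟙 _ ≫ X.scheme.homOfLE (oMinus_le X ⊤ F) =
        X.scheme.homOfLE (le_sup_left : oMinus X ⊤ F ≤ O2) ≫ X.scheme.homOfLE le_top
      rw [Category.id_comp, Scheme.homOfLE_homOfLE])
    hiD hnD hiD2 hnD2 a'
  rw [pull_id] at hr
  have h0 : (T.res D2 M i n i' n' hiD2 hnD2).hom a' = 0 := by
    refine hr.symm.trans ?_
    rw [← pull_pull_eq T ((clSub X F).resLE hp (hd1.trans hW1d.symm))
      ((clSub X F).resLE hle1 (hW1d.trans hd2.symm)) gZ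
      ((clSub X F).scheme.homOfLE_homOfLE hp hle1)]
    exact (congrArg _ hW10).trans (map_zero _)
  obtain ⟨b, hb⟩ := exists_pull_eq T D2 hiD2 hnD2 a' h0
  refine ⟨((T.fjι X (j + 1 + m) i n (fIdx X (j + 1 + m) O2 hO2)).app M).hom b, ?_⟩
  rw [fjRes_fjι, ← oc_ι_pull T (U := fIdx X j (oMinus X ⊤ F) hU')
    (U' := fIdx X j O2 (BMCoh.containsFj_mono X h _ hO2))
    (le_sup_left : oMinus X ⊤ F ≤ O2) b]
  exact (congrArg _ hb).trans (oc_ι_pull T (U := fIdx X j (oMinus X ⊤ F) hU')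
    (U' := fIdx X j U hU) hU'U a)

end Groth.Agent.BMCohLib
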