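import Groth.Agent.BMCohLib.Dim
import Mathlib.CategoryTheory.Limits.ConcreteCategory.Basic
import Mathlib.Algebra.Category.ModuleCat.FilteredColimits

/-!
# Elementwise description of open-system colimits

Representatives and equality in `T.ocolim X P i n` at a coefficient module, when the index family is
directed downwards; functoriality of restriction on elements; bidegree-flexible exactness.
-/

set_option autoImplicit false
set_option linter.unusedSectionVars false

universe u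

open AlgebraicGeometry CategoryTheory CategoryTheory.Limits Opposite TopologicalSpace

namespace Groth.Agent.BMCohLib

variable {V : ObjectProperty Scheme.{u}} [BMCoh.IsConstructible V] {R : Type u} [CommRing R]
  {A : BMCoh.Coefs R} (T : BMCoh.PreTheory V R A)

section functoriality

variable {M : A.Cat} {i n : ℤ}

theorem pull_id (X : BMCoh.Obj V) (a : T.gp X M i n) : (T.pull (𝟙 X) M i n).hom a = a := by
  simp [BMCoh.PreTheory.pull]

theorem pull_comp {X Y Z : BMCoh.Obj V} (f : X ⟶ Y) (g : Y ⟶ Z) (a : T.gp Z M i n) :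
    (T.pull f M i n).hom ((T.pull g M i n).hom a) = (T.pull (f ≫ g) M i n).hom a := by
  simp [BMCoh.PreTheory.pull]

theorem pull_pull_eq {X Y Z : BMCoh.Obj V} (f : X ⟶ Y) (g : Y ⟶ Z) (h : X ⟶ Z)
    (e : f.hom ≫ g.hom = h.hom) (a : T.gp Z M i n) :
    (T.pull f M i n).hom ((T.pull g M i n).hom a) = (T.pull h M i n).hom a := by
  rw [pull_comp, show f ≫ g = h from BMCoh.Hom.ext e]

theorem pull_eq_of_hom_eq {X Y : BMCoh.Obj V} (f g : X ⟶ Y) (e : f.hom = g.hom) :
    T.pull f M i n = T.pull g M i n := by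
  rw [show f = g from BMCoh.Hom.ext e]

theorem pull_eq_self {X : BMCoh.Obj V} (f : X ⟶ X) (e : f.hom = 𝟙 X.scheme) (a : T.gp X M i n) :
    (T.pull f M i n).hom a = a := by
  rw [show f = 𝟙 X from BMCoh.Hom.ext e, pull_id]

theorem pull_injective_of_isIso {X Y : BMCoh.Obj V} (f : X ⟶ Y) [IsIso f.hom] :
    Function.Bijective (T.pull f M i n).hom := by
  let g : Y ⟶ X := ⟨inv f.hom, inferInstance, f.dim_eq.symm⟩
  refine Function.bijective_iff_has_inverse.2 ⟨(T.pull g M i n).hom, fun a => ?_, fun a => ?_⟩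
  · rw [pull_pull_eq T g f (𝟙 Y) (by simp [g]), pull_id]
  · rw [pull_pull_eq T f g (𝟙 X) (by simp [g]), pull_id]

/-- base change on elements -/
theorem push_pull_apply {X Y X' Y' : BMCoh.Obj V} (f : X.scheme ⟶ Y.scheme) [IsProper f]
    (f' : X'.scheme ⟶ Y'.scheme) [IsProper f'] (g : Y' ⟶ Y) (g' : X' ⟶ X)
    (h : IsPullback g'.hom f' f g.hom) {i' n' : ℤ}
    (hi : i' = i + 2 * BMCoh.relCodim X.scheme Y.scheme)
    (hn : n' = n + BMCoh.relCodim X.scheme Y.scheme)
    (hi' : i' = i + 2 * BMCoh.relCodim X'.scheme Y'.scheme)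
    (hn' : n' = n + BMCoh.relCodim X'.scheme Y'.scheme) (a : T.gp X M i n) :
    (T.pull g M i' n').hom ((T.push f M i n i' n' hi hn).hom a) =
      (T.push f' M i n i' n' hi' hn').hom ((T.pull g' M i n).hom a) :=
  congr($(T.push_pull f f' g g' h M i n i' n' hi hn hi' hn') a)

/-- exactness at `H(X)` with a free target degree -/
theorem exact_push_pull' {X : BMCoh.Obj V} (D : BMCoh.Decomp X) {i' n' : ℤ}
    (hi : i' = i + 2 * BMCoh.relCodim D.Z.scheme X.scheme)
    (hn : n' = n + BMCoh.relCodim D.Z.scheme X.scheme) :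
    Function.Exact (T.push D.i M i n i' n' hi hn).hom (T.pull D.j M i' n').hom := by
  obtain ⟨k, rfl⟩ : ∃ k, i' = k + 1 := ⟨i' - 1, (sub_add_cancel _ _).symm⟩
  exact T.exact_push_pull D M k n' i n hi hn

theorem push_pull_open_eq_zero {X : BMCoh.Obj V} (D : BMCoh.Decomp X) {i' n' : ℤ}
    (hi : i' = i + 2 * BMCoh.relCodim D.Z.scheme X.scheme)
    (hn : n' = n + BMCoh.relCodim D.Z.scheme X.scheme) (b : T.gp D.Z M i n) :
    (T.pull D.j M i' n').hom ((T.push D.i M i n i' n' hi hn).hom b) = 0 :=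
  (exact_push_pull' T D hi hn).apply_apply_eq_zero b

theorem exists_push_eq {X : BMCoh.Obj V} (D : BMCoh.Decomp X) {i' n' : ℤ}
    (hi : i' = i + 2 * BMCoh.relCodim D.Z.scheme X.scheme)
    (hn : n' = n + BMCoh.relCodim D.Z.scheme X.scheme) (a : T.gp X M i' n')
    (ha : (T.pull D.j M i' n').hom a = 0) :
    ∃ b, (T.push D.i M i n i' n' hi hn).hom b = a :=
  (exact_push_pull' T D hi hn a).1 ha

theorem res_pull_open_eq_zero {X : BMCoh.Obj V} (D : BMCoh.Decomp X) {i' n' : ℤ}
    (hi : i' = i + 1 - 2 * D.codim) (hn : n' = n - D.codim) (a : T.gp X M i n) :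
    (T.res D M i n i' n' hi hn).hom ((T.pull D.j M i n).hom a) = 0 :=
  (T.exact_pull_res D M i n i' n' hi hn).apply_apply_eq_zero a

theorem exists_pull_eq {X : BMCoh.Obj V} (D : BMCoh.Decomp X) {i' n' : ℤ}
    (hi : i' = i + 1 - 2 * D.codim) (hn : n' = n - D.codim) (a : T.gp D.U M i n)
    (ha : (T.res D M i n i' n' hi hn).hom a = 0) : ∃ b, (T.pull D.j M i n).hom b = a :=
  (T.exact_pull_res D M i n i' n' hi hn a).1 ha

/-- residues commute with restriction, on elements -/
theorem res_pull_apply {X X' : BMCoh.Obj V} (D : BMCoh.Decomp X) (D' : BMCoh.Decomp X')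
    (g : X' ⟶ X) (gZ : D'.Z ⟶ D.Z) (gU : D'.U ⟶ D.U) (h1 : gZ.hom ≫ D.i = D'.i ≫ g.hom)
    (h2 : gU.hom ≫ D.j.hom = D'.j.hom ≫ g.hom) {i' n' : ℤ}
    (hi : i' = i + 1 - 2 * D.codim) (hn : n' = n - D.codim)
    (hi' : i' = i + 1 - 2 * D'.codim) (hn' : n' = n - D'.codim) (a : T.gp D.U M i n) :
    (T.pull gZ M i' n').hom ((T.res D M i n i' n' hi hn).hom a) =
      (T.res D' M i n i' n' hi' hn').hom ((T.pull gU M i n).hom a) :=
  congr($(T.res_pull D D' g gZ gU h1 (BMCoh.Hom.ext h2) M i n i' n' hi hn hi' hn') a)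

end functoriality

section colimit

variable (X : BMCoh.Obj V) (P : X.scheme.Opens → Prop) (i n : ℤ) (M : A.Cat)

/-- the index family is directed downwards and nonempty -/
structure IdxDir : Prop where
  nonempty : Nonempty (BMCoh.Idx X P)
  inf : ∀ U U' : BMCoh.Idx X P, ∃ W : BMCoh.Idx X P, W ≤ U ∧ W ≤ U'

variable {X P}

theorem IdxDir.isFiltered (h : IdxDir X P) : IsFiltered (BMCoh.Idx X P)ᵒᵖ := by
  have : IsCofilteredOrEmpty (BMCoh.Idx X P) :=
    { cone_objs := fun U U' => by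
        obtain ⟨W, h1, h2⟩ := h.inf U U'
        exact ⟨W, homOfLE h1, homOfLE h2, trivial⟩
      cone_maps := fun U U' f g => ⟨U, 𝟙 U, Subsingleton.elim _ _⟩ }
  have : IsCofiltered (BMCoh.Idx X P) := { nonempty := h.nonempty }
  infer_instance

/-- restriction between two members of an index family -/
noncomputable abbrev ilink {U U' : BMCoh.Idx X P} (h : U ≤ U') : X.res U.1 ⟶ X.res U'.1 :=
  X.resLE h (U.2.2.trans U'.2.2.symm)

/-- the evaluated colimit cocone -/
noncomputable def evalIsColimit :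
    IsColimit (((evaluation A.Cat (ModuleCat.{u} R)).obj M).mapCocone
      (colimit.cocone ((BMCoh.idxDiag X P).op ⋙ T.H i n))) :=
  isColimitOfPreserves _ (colimit.isColimit _)

theorem oc_rep (h : IdxDir X P) (ξ : (T.ocolim X P i n).obj M) :
    ∃ (U : BMCoh.Idx X P) (a : T.gp (X.res U.1) M i n),
      ((T.ocolimι X P i n U).app M).hom a = ξ := by
  have := h.isFiltered
  obtain ⟨j, a, ha⟩ := Concrete.isColimit_exists_rep _ (evalIsColimit T (X := X) (P := P) i n M) ξ
  exact ⟨j.unop, a, ha⟩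

variable {i n M}

theorem oc_ι_pull {U U' : BMCoh.Idx X P} (h : U ≤ U') (a : T.gp (X.res U'.1) M i n) :
    ((T.ocolimι X P i n U).app M).hom ((T.pull (ilink h) M i n).hom a) =
      ((T.ocolimι X P i n U').app M).hom a := by
  have h1 := colimit.w ((BMCoh.idxDiag X P).op ⋙ T.H i n) (homOfLE h).op
  exact congr(($h1).app M a)

theorem oc_eq (h : IdxDir X P) {U U' : BMCoh.Idx X P} (a : T.gp (X.res U.1) M i n)
    (b : T.gp (X.res U'.1) M i n)
    (e : ((T.ocolimι X P i n U).app M).hom a = ((T.ocolimι X P i n U').app M).hom b) :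
    ∃ (W : BMCoh.Idx X P) (h1 : W ≤ U) (h2 : W ≤ U'),
      (T.pull (ilink h1) M i n).hom a = (T.pull (ilink h2) M i n).hom b := by
  have := h.isFiltered
  obtain ⟨k, f, g, hk⟩ := Concrete.isColimit_exists_of_rep_eq.{u} _
    (evalIsColimit T (X := X) (P := P) i n M) (i := op U) (j := op U') a b e
  exact ⟨k.unop, f.unop.le, g.unop.le, hk⟩

theorem oc_eq_zero (h : IdxDir X P) {U : BMCoh.Idx X P} (a : T.gp (X.res U.1) M i n)
    (e : ((T.ocolimι X P i n U).app M).hom a = 0) :
    ∃ (W : BMCoh.Idx X P) (h1 : W ≤ U), (T.pull (ilink h1) M i n).hom a = 0 := by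
  obtain ⟨W, h1, h2, hW⟩ := oc_eq T h a (0 : T.gp (X.res U.1) M i n) (by rw [e, map_zero])
  exact ⟨W, h1, by rw [hW, map_zero]⟩

theorem oc_map_ι {Q : X.scheme.Opens → Prop} (h : ∀ U, P U → Q U) (U : BMCoh.Idx X P)
    (a : T.gp (X.res U.1) M i n) :
    ((T.ocolimMap X h i n).app M).hom (((T.ocolimι X P i n U).app M).hom a) =
      ((T.ocolimι X Q i n ⟨U.1, h _ U.2.1, U.2.2⟩).app M).hom a := by
  have h1 : T.ocolimι X P i n U ≫ T.ocolimMap X h i n =
      T.ocolimι X Q i n ⟨U.1, h _ U.2.1, U.2.2⟩ :=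
    colimit.ι_pre ((BMCoh.idxDiag X Q).op ⋙ T.H i n) (BMCoh.idxIncl X h).op (op U)
  exact congr(($h1).app M a)

theorem isZero_of_forall (G : ModuleCat.{u} R) (h : ∀ ξ : G, ξ = 0) : IsZero G :=
  ModuleCat.isZero_of_iff_subsingleton.2 ⟨fun a b => by rw [h a, h b]⟩

theorem eq_zero_of_isZero {G : ModuleCat.{u} R} (h : IsZero G) (ξ : G) : ξ = 0 :=
  have := ModuleCat.subsingleton_of_isZero h
  Subsingleton.elim _ _

end colimit

end Groth.Agent.BMCohLib
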