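import Groth.Agent.BMCohLib.F0
import Groth.Prelude.Def_BMCoh4

/-!
# Consequences: stabilisation, big opens, vanishing, uniqueness of push forwards of points
-/

set_option autoImplicit false
set_option linter.unusedSectionVars false

universe u

open AlgebraicGeometry CategoryTheory CategoryTheory.Limits Opposite TopologicalSpace DirectSum

noncomputable section

namespace Groth.Agent.BMCohLib

variable {V : ObjectProperty Scheme.{u}} [BMCoh.IsConstructible V] {R : Type u} [CommRing R]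
  {A : BMCoh.Coefs R} (T : BMCoh.PreTheory V R A) {M : A.Cat} {i n i' n' : ℤ}

/-- a morphism from a reduced scheme into a closed set kills its vanishing ideal -/
theorem vanishingIdeal_le_ker {Y X : Scheme.{u}} [IsReduced Y] (g : Y ⟶ X) (F : Closeds X)
    (h : ∀ w, g w ∈ F) : Scheme.IdealSheafData.vanishingIdeal F ≤ g.ker := by
  refine Scheme.IdealSheafData.le_ofIdeals_iff.2 fun U s hs => ?_
  rw [Scheme.IdealSheafData.vanishingIdeal_ideal, PrimeSpectrum.mem_vanishingIdeal] at hs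
  rw [RingHom.mem_ker, ← basicOpen_eq_bot_iff, ← Scheme.preimage_basicOpen, eq_bot_iff]
  intro w hw
  have hwU : g w ∈ (U : X.Opens) := X.basicOpen_le s hw
  have hp := hs (U.2.primeIdealOf ⟨g w, hwU⟩)
    (show U.2.fromSpec _ ∈ F by rw [U.2.fromSpec_primeIdealOf]; exact h w)
  have hmem : U.2.primeIdealOf ⟨g w, hwU⟩ ∈ U.2.fromSpec ⁻¹ᵁ X.basicOpen s := by
    show U.2.fromSpec _ ∈ X.basicOpen s
    rw [U.2.fromSpec_primeIdealOf]
    exact hw
  rw [U.2.fromSpec_preimage_basicOpen] at hmem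
  exact absurd hp hmem

/-- restriction to two complementary open-closed pieces -/
theorem pull_prod_bijective {X Y W : BMCoh.Obj V} (iX : X ⟶ W) (iY : Y ⟶ W)
    (h : Set.range iX.hom = (Set.range iY.hom)ᶜ) :
    Function.Bijective fun a : T.gp W M i n => ((T.pull iX M i n).hom a, (T.pull iY M i n).hom a) := by
  have hY : Set.range iY.hom = (Set.range iX.hom)ᶜ := by rw [h, compl_compl]
  have : IsClosedImmersion iX.hom :=
    isClosedImmersion_of_isClosed_range _ (h ▸ iY.hom.isOpenEmbedding.isOpen_range.isClosed_compl)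
  have : IsClosedImmersion iY.hom :=
    isClosedImmersion_of_isClosed_range _ (hY ▸ iX.hom.isOpenEmbedding.isOpen_range.isClosed_compl)
  let D : BMCoh.Decomp W := { Z := X, U := Y, i := iX.hom, closedImm := inferInstance, j := iY, range_eq := hY }
  refine ⟨fun a a' e => ?_, fun p => ⟨(cpush T iX M i n).hom p.1 + (cpush T iY M i n).hom p.2, ?_⟩⟩
  · rw [← sub_eq_zero]
    have h1 : (T.pull iX M i n).hom (a - a') = 0 := by
      rw [map_sub, sub_eq_zero]; exact congrArg Prod.fst e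
    have h2 : (T.pull iY M i n).hom (a - a') = 0 := by
      rw [map_sub, sub_eq_zero]; exact congrArg Prod.snd e
    obtain ⟨b, hb⟩ := exists_push_eq T D (i := i) (n := n) (by rw [relCodim_hom iX]; ring)
      (by rw [relCodim_hom iX]; ring) (a - a') h2
    have hb' : (T.pull iX M i n).hom ((cpush T iX M i n).hom b) = 0 :=
      (congrArg (T.pull iX M i n).hom hb).trans h1
    rw [pull_cpush_self] at hb'
    rw [← hb, hb', map_zero]
  · refine Prod.ext ?_ ?_
    · show (T.pull iX M i n).hom _ = _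
      rw [map_add, pull_cpush_self, pull_cpush_of_disjoint T iY iX h.le, add_zero]
    · show (T.pull iY M i n).hom _ = _
      rw [map_add, pull_cpush_self, pull_cpush_of_disjoint T iX iY hY.le, zero_add]

theorem subsingleton_ptPush {Y X : BMCoh.Obj V} (φ : Y.scheme ⟶ X.scheme) [IsProper φ]
    (y : Y.scheme) (x : X.scheme) : Subsingleton (T.PtPush φ y x) := by
  refine ⟨fun P P' => ?_⟩
  suffices h : P.cpt = P'.cpt by
    cases P; cases P'
    congr
  funext M i n
  refine ModuleCat.hom_ext (LinearMap.ext fun ξ => ?_)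
  obtain ⟨W, b, rfl⟩ := oc_rep T i n M (idxDir_pt Y y) ξ
  obtain ⟨O, hyO, rfl⟩ := exists_pIdx_eq Y y W
  have hyx : φ y = x := P.maps_pt
  have hdim : WeilCoh.pdim X.scheme x = WeilCoh.pdim Y.scheme y := by
    have h := P.codim_eq
    rw [BMCoh.relCodim, dim_ptSub, dim_ptSub] at h
    omega
  have hker : (clι X (ptC X x)).ker ≤ (clι Y (ptC Y y) ≫ φ).ker := by
    rw [Scheme.IdealSheafData.ker_subschemeι]
    have hr := isReduced_clSub Y (ptC Y y)
    refine vanishingIdeal_le_ker _ (ptC X x) fun w => ?_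
    rw [Scheme.Hom.comp_apply, ← hyx]
    exact specializes_iff_mem_closure.1
      ((specializes_iff_mem_closure.2 (clι_mem Y (ptC Y y) w)).map φ.continuous)
  let ψ : (Y.ptSub y).scheme ⟶ (X.ptSub x).scheme :=
    IsClosedImmersion.lift (clι X (ptC X x)) (clι Y (ptC Y y) ≫ φ) hker
  have hψ : ψ ≫ clι X (ptC X x) = clι Y (ptC Y y) ≫ φ := IsClosedImmersion.lift_fac _ _ _
  have : IsProper (ψ ≫ clι X (ptC X x)) := by rw [hψ]; infer_instance
  have : IsProper ψ := MorphismProperty.of_postcomp (W := @IsProper) (W' := @IsSeparated) ψ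
    (clι X (ptC X x)) inferInstance this
  let C : Set Y.scheme := closure {y} \ (O : Set Y.scheme)
  have hC : IsClosed (φ '' C) := φ.isClosedMap _ (isClosed_closure.sdiff O.isOpen)
  let O' : X.scheme.Opens := ⟨(φ '' C)ᶜ, hC.isOpen_compl⟩
  have hxO' : x ∈ O' := by
    rintro ⟨c, ⟨hc, hcO⟩, hcx⟩
    have h1 := pdim_apply_le_of_isClosedMap φ φ.isClosedMap c
    have h2 := pdim_lt Y (specializes_iff_mem_closure.2 hc) (fun e => hcO (e ▸ hyO))
    rw [hcx] at h1
    omega
  let O2 : Y.scheme.Opens := φ ⁻¹ᵁ O'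
  have hy2 : y ∈ O2 := show φ y ∈ O' from hyx ▸ hxO'
  have hle : pIdx Y y O2 hy2 ≤ pIdx Y y O hyO := by
    intro z hz
    by_contra hzO
    exact (show φ (clι Y (ptC Y y) z) ∈ O' from hz) ⟨_, ⟨clι_mem Y (ptC Y y) z, hzO⟩, rfl⟩
  have hpre : pc Y (ptC Y y) O2 ≤ ψ ⁻¹ᵁ pc X (ptC X x) O' := by
    intro z hz
    show clι X (ptC X x) (ψ z) ∈ O'
    rw [← Scheme.Hom.comp_apply, hψ]
    exact hz
  have hpre' : ψ ⁻¹ᵁ pc X (ptC X x) O' = pc Y (ptC Y y) O2 :=
    le_antisymm (fun z hz => by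
      show φ (clι Y (ptC Y y) z) ∈ O'
      rw [← Scheme.Hom.comp_apply, ← hψ]
      exact hz) hpre
  let f : ((Y.ptSub y).res (pIdx Y y O2 hy2).1).scheme ⟶
      ((X.ptSub x).res (pIdx X x O' hxO').1).scheme :=
    ψ.resLE (pc X (ptC X x) O') (pc Y (ptC Y y) O2) hpre
  have : IsIso ((Y.ptSub y).scheme.homOfLE hpre) :=
    isIso_of_isOpenImmersion_of_opensRange_eq_top _ (by
      rw [Scheme.opensRange_homOfLE, ← hpre', Scheme.Opens.ι_preimage_self])
  have : IsProper f := by
    show IsProper ((Y.ptSub y).scheme.homOfLE hpre ≫ ψ ∣_ pc X (ptC X x) O')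
    infer_instance
  have hrel : BMCoh.relCodim ((Y.ptSub y).res (pIdx Y y O2 hy2).1).scheme
      ((X.ptSub x).res (pIdx X x O' hxO').1).scheme = 0 := by
    show BMCoh.relCodim ((pc Y (ptC Y y) O2 : (Y.ptSub y).scheme.Opens) : Scheme.{u})
      ((pc X (ptC X x) O' : (X.ptSub x).scheme.Opens) : Scheme.{u}) = 0
    rw [BMCoh.relCodim, dim_pc Y y hy2, dim_pc X x hxO', hdim, sub_self]
  have hcond : f ≫ (pIdx X x O' hxO').1.ι ≫ X.ptSubι x =
      (pIdx Y y O2 hy2).1.ι ≫ Y.ptSubι y ≫ φ := by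
    rw [← Category.assoc, Scheme.Hom.resLE_comp_ι, Category.assoc]
    exact congrArg _ hψ
  have key : ∀ Q : T.PtPush φ y x,
      (Q.cpt M i n).hom (((T.ptι Y y i n (pIdx Y y O hyO)).app M).hom b) =
        ((T.ptι X x i n (pIdx X x O' hxO')).app M).hom
          ((T.push f M i n i n (by rw [hrel]; ring) (by rw [hrel]; ring)).hom
            ((T.pull (ilink hle) M i n).hom b)) := fun Q => by
    rw [← oc_ι_pull T hle b]
    exact congr($(Q.cpt_spec M i n (pIdx Y y O2 hy2) (pIdx X x O' hxO') f hcond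
      (by rw [hrel]; ring) (by rw [hrel]; ring)) ((T.pull (ilink hle) M i n).hom b))
  exact (key P).trans (key P').symm

variable (X : BMCoh.Obj V)

theorem containsFj_all {j : ℕ} (hj : WeilCoh.dim X.scheme ≤ j) {U : X.scheme.Opens}
    (hU : BMCoh.ContainsFj X j U) : U = ⊤ :=
  top_le_iff.1 fun y _ => hU y ((Nat.sub_le _ _).trans hj)

theorem toFj_apply {j : ℕ} (a : T.gp X M i n) :
    ((T.toFj X j i n).app M).hom a =
      ((T.fjι X j i n (fIdx X j ⊤ fun _ _ => trivial)).app M).hom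
        ((T.pull X.resTop M i n).hom a) := rfl

theorem fjRes_toFj {j m : ℕ} (h : j ≤ m) (a : T.gp X M i n) :
    ((T.fjRes X h i n).app M).hom (((T.toFj X m i n).app M).hom a) =
      ((T.toFj X j i n).app M).hom a := by
  rw [toFj_apply, toFj_apply, fjRes_fjι]

theorem toFj_bijective_of_dim_le {j : ℕ} (hj : WeilCoh.dim X.scheme ≤ j) :
    Function.Bijective ((T.toFj X j i n).app M).hom := by
  have : IsIso X.resTop.hom := inferInstanceAs (IsIso X.scheme.topIso.hom)
  have hb := pull_injective_of_isIso T (M := M) (i := i) (n := n) X.resTop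
  refine ⟨(injective_iff_map_eq_zero _).2 fun a ha => ?_, fun ξ => ?_⟩
  · rw [toFj_apply] at ha
    obtain ⟨⟨W, hW, hWd⟩, h, hW0⟩ :=
      oc_eq_zero T (idxDir_fj X j) (U := fIdx X j ⊤ fun _ _ => trivial) _ ha
    obtain rfl := containsFj_all X hj hW
    have h1 : (T.pull (X.resLE (le_refl (⊤ : X.scheme.Opens)) rfl) M i n).hom
        ((T.pull X.resTop M i n).hom a) = 0 := hW0
    rw [pull_eq_self T _ (X.scheme.homOfLE_rfl _)] at h1
    exact hb.1 (h1.trans (map_zero _).symm)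
  · obtain ⟨⟨U, hU, hUd⟩, c, rfl⟩ := oc_rep T i n M (idxDir_fj X j) ξ
    obtain rfl := containsFj_all X hj hU
    obtain ⟨a, rfl⟩ := hb.2 c
    exact ⟨a, toFj_apply T X a⟩

variable {j : ℕ}

theorem toFj_bijective (hv : ∀ (x : X.scheme) (k l : ℤ), k < 0 → IsZero (T.ptGp X x M k l))
    (hj : i ≤ 2 * (j : ℤ)) : Function.Bijective ((T.toFj X j i n).app M).hom := by
  suffices H : ∀ (t j : ℕ), i ≤ 2 * (j : ℤ) → WeilCoh.dim X.scheme ≤ j + t →
      Function.Bijective ((T.toFj X j i n).app M).hom from H _ j hj le_add_self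
  intro t
  induction t with
  | zero => exact fun j _ h => toFj_bijective_of_dim_le T X h
  | succ t ih =>
    intro j hj h
    have hres : Function.Bijective ((T.fjRes X (Nat.le_succ j) i n).app M).hom :=
      ⟨fjRes_injective T X (fun x _ => hv x _ _ (show i - 2 * ((j : ℤ) + 1) < 0 by omega))
          (n := n - ((j : ℤ) + 1)) (by push_cast; ring) (by push_cast; ring),
        fjRes_surjective T X (fun x _ => hv x _ _ (show i + 1 - 2 * ((j : ℤ) + 1) < 0 by omega))
          (n' := n - ((j : ℤ) + 1)) rfl rfl⟩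
    have h' := hres.comp (ih (j + 1) (by push_cast; omega) (by omega))
    convert h' using 1
    exact funext fun a => (fjRes_toFj T X (Nat.le_succ j) a).symm

/-- classes on an open inject into `H(F_j X)` when they inject into `H(F_j)` of the open -/
theorem fjι_injective {U0 : X.scheme.Opens} (hU0 : BMCoh.ContainsFj X j U0)
    (h : Function.Injective ((T.toFj (X.res U0) j i n).app M).hom) :
    Function.Injective ((T.fjι X j i n (fIdx X j U0 hU0)).app M).hom := by
  refine (injective_iff_map_eq_zero _).2 fun c hc => h ?_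
  rw [map_zero, toFj_apply]
  obtain ⟨⟨W, hW, hWd⟩, hle, hW0⟩ := oc_eq_zero T (idxDir_fj X j) c hc
  have hd := dim_eq_of_containsFj X hU0
  let W1 : (X.res U0).scheme.Opens := U0.ι ⁻¹ᵁ W
  have hW1 : BMCoh.ContainsFj (X.res U0) j W1 := fun y hy => hW _ (by rwa [codim_res X _ hd] at hy)
  have hd1 := dim_eq_of_containsFj (X.res U0) hW1
  rw [← oc_ι_pull T (U := fIdx (X.res U0) j W1 hW1)
    (U' := fIdx (X.res U0) j ⊤ fun _ _ => trivial) (show W1 ≤ ⊤ from le_top)]
  let a : T.gp (X.res U0) M i n := c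
  have h2 : (T.pull ((X.res U0).resι W1 hd1) M i n).hom a = 0 := by
    let r : (X.res U0).res W1 ⟶ X.res W :=
      ⟨U0.ι ∣_ W, inferInstance, (hd1.trans hd).trans hWd.symm⟩
    have e : r.hom ≫ (X.resLE hle (hWd.trans hd.symm)).hom = ((X.res U0).resι W1 hd1).hom := by
      show U0.ι ∣_ W ≫ X.scheme.homOfLE hle = W1.ι
      rw [← cancel_mono U0.ι, Category.assoc, Scheme.homOfLE_ι, morphismRestrict_ι]
    rw [← pull_pull_eq T r (X.resLE hle (hWd.trans hd.symm)) _ e]
    exact (congrArg (T.pull r M i n).hom hW0).trans (map_zero _)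
  refine (congrArg _ ?_).trans (map_zero _)
  exact (pull_pull_eq T (ilink (X := X.res U0) (U := fIdx (X.res U0) j W1 hW1)
    (U' := fIdx (X.res U0) j ⊤ fun _ _ => trivial) (show W1 ≤ ⊤ from le_top))
    (X.res U0).resTop ((X.res U0).resι W1 hd1)
    ((X.res U0).scheme.homOfLE_ι (show W1 ≤ ⊤ from le_top)) a).trans h2

theorem fjι_pull_resι {U0 : X.scheme.Opens} (hU0 : BMCoh.ContainsFj X j U0) (a : T.gp X M i n) :
    ((T.fjι X j i n (fIdx X j U0 hU0)).app M).hom
      ((T.pull (X.resι U0 (dim_eq_of_containsFj X hU0)) M i n).hom a) =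
      ((T.toFj X j i n).app M).hom a := by
  rw [toFj_apply, ← oc_ι_pull T (U := fIdx X j U0 hU0) (U' := fIdx X j ⊤ fun _ _ => trivial)
    (show U0 ≤ ⊤ from le_top)]
  exact congrArg _ (pull_pull_eq T (ilink (U := fIdx X j U0 hU0)
    (U' := fIdx X j ⊤ fun _ _ => trivial) (show U0 ≤ ⊤ from le_top))
    X.resTop (X.resι U0 (dim_eq_of_containsFj X hU0))
      (X.scheme.homOfLE_ι (show U0 ≤ ⊤ from le_top)) a).symm

theorem pull_resι_bijective {U0 : X.scheme.Opens} (hU0 : BMCoh.ContainsFj X j U0)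
    (h : Function.Injective ((T.toFj (X.res U0) j i n).app M).hom)
    (hX : Function.Bijective ((T.toFj X j i n).app M).hom) :
    Function.Bijective (T.pull (X.resι U0 (dim_eq_of_containsFj X hU0)) M i n).hom :=
  ⟨fun a a' e => hX.1 (by rw [← fjι_pull_resι T X hU0, ← fjι_pull_resι T X hU0, e]), fun c => by
    obtain ⟨a, ha⟩ := hX.2 (((T.fjι X j i n (fIdx X j U0 hU0)).app M).hom c)
    exact ⟨a, fjι_injective T X hU0 h (by rw [fjι_pull_resι T X hU0, ha])⟩⟩

theorem pull_bijective_two (hv : ∀ (Y : BMCoh.Obj V) (x : Y.scheme) (k l : ℤ),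
      k < 0 → IsZero (T.ptGp Y x M k l))
    {U : BMCoh.Obj V} (f : U ⟶ X)
    (hbig : ∀ x : X.scheme, x ∉ Set.range f.hom → 2 ≤ WeilCoh.codim X.scheme x) :
    Function.Bijective (T.pull f M 2 n).hom := by
  have hU0 : BMCoh.ContainsFj X 1 f.hom.opensRange := fun y hy => by_contra fun h => by
    have := hbig y h
    omega
  have hd := dim_eq_of_containsFj X hU0
  have hres := pull_resι_bijective T X (M := M) (n := n) hU0
    (toFj_bijective T (X.res f.hom.opensRange) (hv _) (j := 1) (i := 2) (by norm_num)).1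
    (toFj_bijective T X (hv X) (j := 1) (i := 2) (by norm_num))
  let q : U ⟶ X.res f.hom.opensRange :=
    ⟨f.hom.isoOpensRange.hom, inferInstance, f.dim_eq.trans hd.symm⟩
  have : IsIso q.hom := inferInstanceAs (IsIso f.hom.isoOpensRange.hom)
  have e : ∀ a : T.gp X M 2 n, (T.pull q M 2 n).hom ((T.pull (X.resι f.hom.opensRange hd) M 2 n).hom a) =
      (T.pull f M 2 n).hom a := fun a =>
    pull_pull_eq T q (X.resι f.hom.opensRange hd) f f.hom.isoOpensRange_hom_ι a
  rw [← funext e]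
  exact (pull_injective_of_isIso T q).comp hres

/-- `H(F_j X)` vanishes in high degree -/
theorem fjGp_eq_zero [IsReduced X.scheme] (c : ℕ)
    (hc : ∀ (y : X.scheme) (k l : ℤ), (WeilCoh.pdim X.scheme y : ℤ) + c < k →
      IsZero (T.ptGp X y M k l))
    (j : ℕ) : ∀ (i n : ℤ), (WeilCoh.dim X.scheme : ℤ) + j + c < i →
      ∀ ξ : T.fjGp X j M i n, ξ = 0 := by
  induction j with
  | zero =>
    intro i n hi ξ
    refine fjGp_zero_eq_zero T X (fun x hx => hc x i n ?_) ξ
    have := (codim_eq_iff X x 0).1 hx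
    push_cast at hi
    omega
  | succ j ih =>
    intro i n hi ξ
    push_cast at hi
    refine fjRes_injective T X (i := i - 2 * ((j : ℤ) + 1)) (n := n - ((j : ℤ) + 1))
      (fun x hx => hc x _ _ ?_) (by push_cast; ring) (by push_cast; ring) ?_
    · have := (codim_eq_iff X x (j + 1)).1 hx
      omega
    · rw [map_zero]
      exact ih i n (by omega) _

theorem pushTot_quot_bijective_nr [IsReduced X.scheme] (c : ℕ)
    (hc : ∀ (y : X.scheme) (k l : ℤ), (WeilCoh.pdim X.scheme y : ℤ) + c < k →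
      IsZero (T.ptGp X y M k l))
    (q : ℕ) (P₀ : T.PushData X q) (Q₀ : T.ResData X q) (P₁ : T.PushData X (q + 1))
    (Q₁ : T.ResData X (q + 1)) (e m a n e' m' b k a₀ n₀ : ℤ)
    (hd : e + ((q + 1 : ℕ) : ℤ) = (WeilCoh.dim X.scheme : ℤ) + c)
    (ha : a = e + 2 * ((q + 1 : ℕ) : ℤ)) (hn : n = m + ((q + 1 : ℕ) : ℤ))
    (he' : e' = a + 1 - 2 * (((q + 1 : ℕ) : ℤ) + 1)) (hm' : m' = n - (((q + 1 : ℕ) : ℤ) + 1))
    (hb : a₀ = b + 2 * (q : ℤ)) (hk : n₀ = k + (q : ℤ)) (he : e = a₀ + 1 - 2 * ((q : ℤ) + 1))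
    (hm : m = n₀ - ((q : ℤ) + 1)) :
    (∀ α : T.fjGp X (q + 1) M a n, α ∈ T.nr X (q + 1) a n M →
      ∃ ξ : T.ptSum X (q + 1) M e m,
        (Q₁.tot M a n e' m' he' hm').hom ((P₁.tot M e m a n ha hn).hom ξ) = 0 ∧
          (P₁.tot M e m a n ha hn).hom ξ = α) ∧
    (∀ ξ : T.ptSum X (q + 1) M e m,
      (Q₁.tot M a n e' m' he' hm').hom ((P₁.tot M e m a n ha hn).hom ξ) = 0 →
      (P₁.tot M e m a n ha hn).hom ξ = 0 →
        ∃ ζ : T.ptSum X q M b k, (Q₀.tot M a₀ n₀ e m he hm).hom ((P₀.tot M b k a₀ n₀ hb hk).hom ζ) = ξ) := by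
  constructor
  · rintro α ⟨β, rfl⟩
    have h0 := fjGp_eq_zero T X c hc q a n (by push_cast at hd ha ⊢; omega)
      (((T.fjRes X (Nat.le_succ q) a n).app M).hom
        (((T.fjRes X (Nat.le_succ (q + 1)) a n).app M).hom β))
    obtain ⟨ξ, hξ⟩ := (exact_pushTot_fjRes T X P₁ ha hn _).1 h0
    exact ⟨ξ, by rw [hξ]; exact (exact_fjRes_resTot T X Q₁ he' hm').apply_apply_eq_zero β, hξ⟩
  · intro ξ _ h0
    obtain rfl : a = a₀ + 1 := by push_cast at ha; omega
    obtain rfl : n = n₀ := by push_cast at hn; omega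
    obtain ⟨η, hη⟩ := (exact_resTot_pushTot T X Q₀ P₁ he hm ha hn ξ).1 h0
    cases q with
    | zero =>
      obtain ⟨ζ, hζ⟩ := (pushTot_bijective_zero T X P₀ hb hk).2 η
      exact ⟨ζ, by rw [hζ, hη]⟩
    | succ q =>
      obtain ⟨ζ, hζ⟩ := (exact_pushTot_fjRes T X P₀ hb hk η).1
        (fjGp_eq_zero T X c hc q a₀ n (by push_cast at hd he hb ⊢; omega) _)
      exact ⟨ζ, by rw [hζ, hη]⟩

end Groth.Agent.BMCohLib
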