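import Groth.Agent.BMCohLib.Conseq
import Groth.Prelude.Def_Curv2
import Mathlib.AlgebraicGeometry.Normalization
import Mathlib.AlgebraicGeometry.Morphisms.QuasiFinite
import Mathlib.AlgebraicGeometry.PullbackCarrier

/-!
# Residue after push forward along a finite map from an integral object
-/

set_option autoImplicit false
set_option linter.unusedSectionVars false

universe u

open AlgebraicGeometry CategoryTheory CategoryTheory.Limits Opposite TopologicalSpace DirectSum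

noncomputable section

namespace Groth.Agent.BMCohLib

variable {V : ObjectProperty Scheme.{u}} [BMCoh.IsConstructible V]

/-- finite morphisms preserve `pdim` -/
theorem pdim_apply_eq_of_isFinite {Y X : BMCoh.Obj V} (φ : Y.scheme ⟶ X.scheme) [IsFinite φ]
    (y : Y.scheme) : WeilCoh.pdim X.scheme (φ y) = WeilCoh.pdim Y.scheme y := by
  refine le_antisymm (pdim_apply_le_of_isClosedMap φ φ.isClosedMap y) ?_
  have h := Order.height_le_height_apply_of_strictMono (fun z : Y.scheme => φ z) (fun a b hab => by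
    have hs : b ⤳ a := hab.le
    refine lt_of_le_not_ge (hs.map φ.continuous) fun h' => ?_
    have he : φ a = φ b :=
      (Specializes.antisymm (show φ a ⤳ φ b from h') (hs.map φ.continuous)).eq
    have : DiscreteTopology (φ ⁻¹' {φ b}) := (φ.isDiscrete_preimage_singleton (φ b)).to_subtype
    have h2 : (⟨b, rfl⟩ : φ ⁻¹' {φ b}) ⤳ ⟨a, he⟩ := subtype_specializes_iff _ _ |>.2 hs
    exact hab.ne' (congrArg Subtype.val h2.eq)) y
  rw [height_eq, height_eq, Nat.cast_le] at h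
  exact h

theorem dim_eq_of_surjective {Z Z' : BMCoh.Obj V} (k : Z.scheme ⟶ Z'.scheme) [IsClosedImmersion k]
    [Surjective k] : WeilCoh.dim Z.scheme = WeilCoh.dim Z'.scheme := by
  refine le_antisymm (dim_le_of_isEmbedding k k.isClosedEmbedding.isEmbedding)
    (dim_le_of_forall _ _ fun z => ?_)
  obtain ⟨w, rfl⟩ := Surjective.surj (f := k) z
  rw [pdim_of_isClosedImmersion]
  exact pdim_le_dim _ _

variable {R : Type u} [CommRing R] {A : BMCoh.Coefs R} (T : BMCoh.PreTheory V R A)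
  {M : A.Cat} {i n i' n' : ℤ}

/-- the residue data on the classes coming from a cut by the closures of several points -/
theorem resData_cpt_cut' (X : BMCoh.Obj V) {j : ℕ} (Q : T.ResData X j)
    {S : Finset (X.cdPt (j + 1))} {U0 W : X.scheme.Opens} (hU0 : BMCoh.ContainsFj X j U0)
    (hle : U0 ≤ W) (he : (U0 : Set X.scheme) = (W : Set X.scheme) \ ptsC X S)
    (hsep : Sep X S W) (hW : ∀ x ∈ S, x.1 ∈ W) (x : X.cdPt (j + 1)) (hx : x ∈ S)
    (hd : WeilCoh.dim (U0 : Scheme.{u}) = WeilCoh.dim (W : Scheme.{u}))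
    (hi : i' = i + 1 - 2 * ((j : ℤ) + 1)) (hn : n' = n - ((j : ℤ) + 1))
    (hiD : i' = i + 1 - 2 * (cut X (ptsC X S) hle hd he).codim)
    (hnD : n' = n - (cut X (ptsC X S) hle hd he).codim) (a : T.gp (X.res U0) M i n) :
    (Q.cpt x M i n i' n' hi hn).hom (((T.fjι X j i n (fIdx X j U0 hU0)).app M).hom a) =
      ((T.ptι X x.1 i' n' (pIdx X x.1 W (hW x hx))).app M).hom
        ((T.pull (pieceHom X hsep hW x hx) M i' n').hom
          ((T.res (cut X (ptsC X S) hle hd he) M i n i' n' hiD hnD).hom a)) := by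
  have h := congr($(Q.cpt_spec x M i n i' n' hi hn (Y := X.res W)
    (X.resι W (dim_eq_of_containsFj X (containsFj_of_le X hU0 hle))) (cut X (ptsC X S) hle hd he)
    (pIdx X x.1 W (hW x hx)) (pieceHom X hsep hW x hx) (by
      show (pieceHom X hsep hW x hx).hom ≫ pcι X (ptsC X S) W ≫ W.ι = _
      rw [← Category.assoc, pieceHom_pcι]
      exact pcι_ι X (ptC X x.1) W)
    (fIdx X j U0 hU0) (𝟙 _) (by
      show 𝟙 _ ≫ X.scheme.homOfLE hle ≫ W.ι = U0.ι
      rw [Category.id_comp, Scheme.homOfLE_ι])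
    hiD hnD) a)
  simp only [ModuleCat.hom_comp, LinearMap.comp_apply] at h
  rw [pull_id] at h
  exact h

variable {Y X : BMCoh.Obj V} {φ : Y.scheme ⟶ X.scheme} {j k : ℕ}

open Classical in
theorem famTot_component (t : Y.cdPt j → X.cdPt k) (F : ∀ y : Y.cdPt j, T.PtPush φ y.1 (t y).1)
    (ξ : T.ptSum Y j M i n) (S : Finset (Y.cdPt j)) (hS : ∀ y ∉ S, ξ y = 0) (x : X.cdPt k) :
    (BMCoh.PreTheory.PtPush.famTot t F M i n).hom ξ x =
      ∑ y ∈ S, if h : t y = x then ((h ▸ F y : T.PtPush φ y.1 x.1).cpt M i n).hom (ξ y) else 0 := by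
  rw [sum_lof_apply T Y (BMCoh.PreTheory.PtPush.famTot t F M i n) ξ S hS]
  refine (DFinsupp.finsetSum_apply (β := fun z : X.cdPt k => T.ptGp X z.1 M i n) S _ x).trans ?_
  refine Finset.sum_congr rfl fun y _ => ?_
  rw [BMCoh.PreTheory.PtPush.famTot_lof, DirectSum.lof_eq_of]
  by_cases h : t y = x
  · subst h
    rw [dif_pos rfl]
    exact DirectSum.of_eq_same (β := fun z : X.cdPt k => T.ptGp X z.1 M i n) (t y) _
  · rw [dif_neg h]
    exact DirectSum.of_eq_of_ne (β := fun z : X.cdPt k => T.ptGp X z.1 M i n) (t y) x _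
      (Ne.symm h)

theorem resTot_pushCpt_ptPush_eq
    (hred : ∀ (S : BMCoh.Obj V) (D D'' : BMCoh.Decomp S) (gU : D''.U ⟶ D.U)
      (k : D''.Z.scheme ⟶ D.Z.scheme) [IsClosedImmersion k] [AlgebraicGeometry.Surjective k],
      gU ≫ D.j = D''.j → k ≫ D.i = D''.i →
      ∀ (M : A.Cat) (i n i' n' : ℤ) (hi : i' = i + 1 - 2 * D.codim) (hn : n' = n - D.codim)
        (hi'' : i' = i + 1 - 2 * D''.codim) (hn'' : n' = n - D''.codim)
        (hk : i' = i' + 2 * BMCoh.relCodim D''.Z.scheme D.Z.scheme)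
        (hk' : n' = n' + BMCoh.relCodim D''.Z.scheme D.Z.scheme),
      T.pull gU M i n ≫ T.res D'' M i n i' n' hi'' hn'' ≫ T.push k M i' n' i' n' hk hk' =
        T.res D M i n i' n' hi hn)
    (X : BMCoh.Obj V) (q : ℕ) (w : X.cdPt q) (Y : BMCoh.Obj V) (η : Y.scheme) (hgen : ∀ y, η ⤳ y)
    (φ : Y.scheme ⟶ X.scheme) [IsFinite φ]
    (hη : WeilCoh.codim Y.scheme η = 0)
    (P : T.PushData X q) (Q : T.ResData X q) (L : T.PtPush φ η w.1)
    (P' : T.PushData Y 0) (Q' : T.ResData Y 0) (t : Y.cdPt 1 → X.cdPt (q + 1))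
    (F : ∀ y : Y.cdPt 1, T.PtPush φ y.1 (t y).1)
    (M : A.Cat) (i n i₁ n₁ i₂ n₂ i₃ n₃ : ℤ)
    (h1 : i₁ = i + 2 * (q : ℤ)) (h1' : n₁ = n + (q : ℤ))
    (h2 : i₂ = i₁ + 1 - 2 * ((q : ℤ) + 1)) (h2' : n₂ = n₁ - ((q : ℤ) + 1))
    (h3 : i₃ = i + 2 * ((0 : ℕ) : ℤ)) (h3' : n₃ = n + ((0 : ℕ) : ℤ))
    (h4 : i₂ = i₃ + 1 - 2 * (((0 : ℕ) : ℤ) + 1)) (h4' : n₂ = n₃ - (((0 : ℕ) : ℤ) + 1))
    (a : T.ptGp Y η M i n) :
    (Q.tot M i₁ n₁ i₂ n₂ h2 h2').hom ((P.cpt w M i n i₁ n₁ h1 h1').hom ((L.cpt M i n).hom a)) =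
      (BMCoh.PreTheory.PtPush.famTot t F M i₂ n₂).hom
        ((Q'.tot M i₃ n₃ i₂ n₂ h4 h4').hom
          ((P'.cpt ⟨η, hη⟩ M i n i₃ n₃ h3 h3').hom a)) := by
  classical
  have hφη : φ η = w.1 := L.maps_pt
  have hp : ∀ y, WeilCoh.pdim X.scheme (φ y) = WeilCoh.pdim Y.scheme y :=
    pdim_apply_eq_of_isFinite φ
  have hw := (codim_eq_iff X w.1 q).1 w.2
  have hdY : WeilCoh.pdim Y.scheme η = WeilCoh.dim Y.scheme := by
    have := (codim_eq_iff Y η 0).1 hη; omega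
  have hdim : WeilCoh.dim Y.scheme + q = WeilCoh.dim X.scheme := by
    have := hp η; rw [hφη] at this; omega
  have hcod : ∀ y, WeilCoh.codim X.scheme (φ y) = WeilCoh.codim Y.scheme y + q := fun y => by
    have := hp y
    have := pdim_le_dim Y y
    unfold WeilCoh.codim
    omega
  have himg : ∀ y, φ y ∈ ptC X w.1 := fun y => by
    rw [← hφη]
    exact specializes_iff_mem_closure.1 ((hgen y).map φ.continuous)
  -- a representative of `a` over an open `O` containing the points of codimension `≤ q`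
  obtain ⟨Wy, b0, rfl⟩ := oc_rep T i n M (idxDir_pt Y η) a
  obtain ⟨Oy, hyO, rfl⟩ := exists_pIdx_eq Y η Wy
  let A0 : Closeds X.scheme := ⟨φ '' (Oy : Set Y.scheme)ᶜ,
    φ.isClosedMap _ Oy.isOpen.isClosed_compl⟩
  let O : X.scheme.Opens := oMinus X ⊤ A0
  have hO : BMCoh.ContainsFj X q O := fun z hz => ⟨trivial, by
    rintro ⟨y, hy, rfl⟩
    have h0 : WeilCoh.codim Y.scheme y = 0 := by have := hcod y; omega
    have hy0 : y = η := by
      by_contra hne
      have := pdim_lt Y (hgen y) hne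
      have := (codim_eq_iff Y y 0).1 h0
      omega
    exact hy (hy0 ▸ hyO)⟩
  have hwO : w.1 ∈ O := hO w.1 w.2.le
  let OY : Y.scheme.Opens := φ ⁻¹ᵁ O
  have hηO : η ∈ OY := show φ η ∈ O from hφη.symm ▸ hwO
  have hOY : OY ≤ Oy := fun y hy => by_contra fun hn => hy.2 ⟨y, hn, rfl⟩
  have hOY0 : BMCoh.ContainsFj Y 0 OY := fun y hy => by
    have h0 : y = η := by
      by_contra hne
      have := pdim_lt Y (hgen y) hne
      have := (codim_le_iff Y y 0).1 hy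
      omega
    exact h0 ▸ hηO
  have hleη : pIdx Y η OY hηO ≤ pIdx Y η Oy hyO := pc_mono Y _ hOY
  rw [← oc_ι_pull T hleη b0]
  generalize (T.pull (ilink hleη) M i n).hom b0 = b
  -- the class on `OY` and its push forward to `O`
  let aY : T.gp (Y.res OY) M i₃ n₃ :=
    (pcPush T Y hηO hOY0 hη M i n i₃ n₃ h3 h3').hom b
  let φO : (Y.res OY).scheme ⟶ (X.res O).scheme := φ ∣_ O
  have hdimOY : WeilCoh.dim (OY : Scheme.{u}) = WeilCoh.dim Y.scheme := dim_eq_of_containsFj Y hOY0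
  have hrel : BMCoh.relCodim (OY : Scheme.{u}) (O : Scheme.{u}) = (q : ℤ) := by
    rw [BMCoh.relCodim, hdimOY, dim_eq_of_containsFj X hO]; omega
  have hk1 : i₁ = i₃ + 2 * BMCoh.relCodim (Y.res OY).scheme (X.res O).scheme := by
    show _ = _ + 2 * BMCoh.relCodim (OY : Scheme.{u}) (O : Scheme.{u})
    rw [hrel, h1, h3]; push_cast; ring
  have hk1' : n₁ = n₃ + BMCoh.relCodim (Y.res OY).scheme (X.res O).scheme := by
    show _ = _ + BMCoh.relCodim (OY : Scheme.{u}) (O : Scheme.{u})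
    rw [hrel, h1', h3']; push_cast; ring
  let c : T.gp (X.res O) M i₁ n₁ := (T.push φO M i₃ n₃ i₁ n₁ hk1 hk1').hom aY
  have hL : (P.cpt w M i n i₁ n₁ h1 h1').hom ((L.cpt M i n).hom
      (((T.ptι Y η i n (pIdx Y η OY hηO)).app M).hom b)) =
      ((T.fjι X q i₁ n₁ (fIdx X q O hO)).app M).hom c := by
    have hker : (clι X (ptC X w.1)).ker ≤ (clι Y (ptC Y η) ≫ φ).ker := by
      rw [Scheme.IdealSheafData.ker_subschemeι]
      have hr := isReduced_clSub Y (ptC Y η)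
      exact vanishingIdeal_le_ker _ (ptC X w.1) fun z => himg _
    let ψ : (Y.ptSub η).scheme ⟶ (X.ptSub w.1).scheme :=
      IsClosedImmersion.lift (clι X (ptC X w.1)) (clι Y (ptC Y η) ≫ φ) hker
    have hψ : ψ ≫ clι X (ptC X w.1) = clι Y (ptC Y η) ≫ φ := IsClosedImmersion.lift_fac _ _ _
    let f : ((Y.ptSub η).res (pIdx Y η OY hηO).1).scheme ⟶
        ((X.ptSub w.1).res (pIdx X w.1 O hwO).1).scheme :=
      ψ.resLE (pc X (ptC X w.1) O) (pc Y (ptC Y η) OY) fun z hz => by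
        show clι X (ptC X w.1) (ψ z) ∈ O
        rw [← Scheme.Hom.comp_apply, hψ]; exact hz
    have hf : f ≫ pcι X (ptC X w.1) O = pcι Y (ptC Y η) OY ≫ φO := by
      rw [← cancel_mono O.ι, Category.assoc, Category.assoc, pcι_ι, ← Category.assoc,
        Scheme.Hom.resLE_comp_ι, morphismRestrict_ι, ← Category.assoc (pcι Y (ptC Y η) OY),
        pcι_ι, Category.assoc, hψ, Category.assoc]
    have : IsProper (f ≫ pcι X (ptC X w.1) O) := by
      rw [hf]
      have : IsProper φO := inferInstanceAs (IsProper (φ ∣_ O))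
      infer_instance
    have : IsProper f := MorphismProperty.of_postcomp (W := @IsProper) (W' := @IsSeparated) f
      (pcι X (ptC X w.1) O) inferInstance this
    have hrelf : BMCoh.relCodim ((Y.ptSub η).res (pIdx Y η OY hηO).1).scheme
        ((X.ptSub w.1).res (pIdx X w.1 O hwO).1).scheme = 0 := by
      show BMCoh.relCodim ((pc Y (ptC Y η) OY : (Y.ptSub η).scheme.Opens) : Scheme.{u})
        ((pc X (ptC X w.1) O : (X.ptSub w.1).scheme.Opens) : Scheme.{u}) = 0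
      rw [BMCoh.relCodim, dim_pc Y η hηO, dim_pc X w.1 hwO]
      have := hp η; rw [hφη] at this; omega
    have e1 : i = i + 2 * BMCoh.relCodim ((Y.ptSub η).res (pIdx Y η OY hηO).1).scheme
        ((X.ptSub w.1).res (pIdx X w.1 O hwO).1).scheme := by rw [hrelf]; ring
    have e2 : n = n + BMCoh.relCodim ((Y.ptSub η).res (pIdx Y η OY hηO).1).scheme
        ((X.ptSub w.1).res (pIdx X w.1 O hwO).1).scheme := by rw [hrelf]; ring
    have hcond : f ≫ (pIdx X w.1 O hwO).1.ι ≫ X.ptSubι w.1 =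
        (pIdx Y η OY hηO).1.ι ≫ Y.ptSubι η ≫ φ := by
      rw [← Category.assoc, Scheme.Hom.resLE_comp_ι, Category.assoc]
      exact congrArg _ hψ
    have hspec : (L.cpt M i n).hom (((T.ptι Y η i n (pIdx Y η OY hηO)).app M).hom b) =
        ((T.ptι X w.1 i n (pIdx X w.1 O hwO)).app M).hom ((T.push f M i n i n e1 e2).hom b) :=
      congr($(L.cpt_spec M i n (pIdx Y η OY hηO) (pIdx X w.1 O hwO) f hcond e1 e2) b)
    rw [hspec, pushData_cpt_ptι T X P w hwO hO h1 h1']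
    refine congrArg _ ?_
    have hr1 : BMCoh.relCodim ((pc Y (ptC Y η) OY : (Y.ptSub η).scheme.Opens) : Scheme.{u})
        (O : Scheme.{u}) = (q : ℤ) := by
      rw [BMCoh.relCodim, dim_pc Y η hηO, dim_eq_of_containsFj X hO]; omega
    have : IsProper φO := inferInstanceAs (IsProper (φ ∣_ O))
    have q1 : i₁ = i + 2 * BMCoh.relCodim ((Y.ptSub η).res (pIdx Y η OY hηO).1).scheme
        (X.res O).scheme := by
      show _ = _ + 2 * BMCoh.relCodim ((pc Y (ptC Y η) OY : (Y.ptSub η).scheme.Opens) : Scheme.{u})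
        (O : Scheme.{u})
      rw [hr1]; exact h1
    have q2 : n₁ = n + BMCoh.relCodim ((Y.ptSub η).res (pIdx Y η OY hηO).1).scheme
        (X.res O).scheme := by
      show _ = _ + BMCoh.relCodim ((pc Y (ptC Y η) OY : (Y.ptSub η).scheme.Opens) : Scheme.{u})
        (O : Scheme.{u})
      rw [hr1]; exact h1'
    refine (congr($(T.push_comp (X := (Y.ptSub η).res (pIdx Y η OY hηO).1)
      (Y := (X.ptSub w.1).res (pIdx X w.1 O hwO).1) (Z := X.res O) f (pcι X (ptC X w.1) O) M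
      i n i n i₁ n₁ e1 e2 _ _ q1 q2) b)).trans ?_
    rw [push_congr T hf q1 q2]
    exact congr($(T.push_comp (X := (Y.ptSub η).res (pIdx Y η OY hηO).1)
      (Y := Y.res OY) (Z := X.res O) (pcι Y (ptC Y η) OY) φO M
      i n i₃ n₃ i₁ n₁ _ _ hk1 hk1' q1 q2) b).symm
  have hR : (P'.cpt ⟨η, hη⟩ M i n i₃ n₃ h3 h3').hom
      (((T.ptι Y η i n (pIdx Y η OY hηO)).app M).hom b) =
      ((T.fjι Y 0 i₃ n₃ (fIdx Y 0 OY hOY0)).app M).hom aY :=
    pushData_cpt_ptι T Y P' ⟨η, hη⟩ hηO hOY0 h3 h3' b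
  rw [hL, hR]
  obtain ⟨S0, hS0⟩ := exists_finset_support T Y
    ((Q'.tot M i₃ n₃ i₂ n₂ h4 h4').hom (((T.fjι Y 0 i₃ n₃ (fIdx Y 0 OY hOY0)).app M).hom aY))
  refine DFinsupp.ext fun x => ?_
  have htφ : ∀ y : Y.cdPt 1, φ y.1 = (t y).1 := fun y => (F y).maps_pt
  by_cases hxO : x.1 ∈ O
  · rw [BMCoh.PreTheory.ResData.tot_apply,
      resData_cpt_eq_zero_of_mem T X Q x (fIdx X q O hO) hxO h2 h2' c,
      famTot_component T t F _ S0 hS0 x]
    refine (Finset.sum_eq_zero fun y _ => ?_).symm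
    split_ifs with h
    · rw [BMCoh.PreTheory.ResData.tot_apply,
        resData_cpt_eq_zero_of_mem T Y Q' y (fIdx Y 0 OY hOY0)
          (show φ y.1 ∈ O by rw [htφ y, h]; exact hxO) h4 h4' aY, map_zero]
    · rfl
  -- the fibre over `x`
  have hfib : {y : Y.cdPt 1 | φ y.1 = x.1}.Finite :=
    ((φ.finite_preimage_singleton x.1).preimage Subtype.val_injective.injOn).subset fun y hy => hy
  let S := hfib.toFinset
  have hSmem : ∀ y, y ∈ S ↔ φ y.1 = x.1 := fun y => Set.Finite.mem_toFinset _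
  have hS' : ∀ y ∉ S0 ∪ S, (Q'.tot M i₃ n₃ i₂ n₂ h4 h4').hom
      (((T.fjι Y 0 i₃ n₃ (fIdx Y 0 OY hOY0)).app M).hom aY) y = 0 :=
    fun y hy => hS0 y fun h => hy (Finset.mem_union_left _ h)
  rw [famTot_component T t F _ (S0 ∪ S) hS' x]
  rw [← Finset.sum_subset Finset.subset_union_right (fun y _ hy => dif_neg fun h =>
    hy ((hSmem y).2 ((htφ y).trans (congrArg Subtype.val h))))]
  have ht : ∀ y ∈ S, t y = x := fun y hy => Subtype.ext ((htφ y).symm.trans ((hSmem y).1 hy))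
  obtain ⟨O1, hO1, hxO1, he1⟩ := exists_adjoin X hO x.2 hxO
  -- isolate the fibre inside the preimage of the closure of `x`
  let G : Closeds Y.scheme :=
    ⟨φ ⁻¹' (ptC X x.1 : Set X.scheme), (ptC X x.1).isClosed.preimage φ.continuous⟩
  have hG : ∀ z ∈ G, 1 ≤ WeilCoh.codim Y.scheme z := fun z hz => by
    have h' := codim_of_mem_ptC X (show φ z ∈ ptC X x.1 from hz)
    have := hcod z
    have := x.2
    omega
  have hiso : ∀ y : Y.cdPt 1, ∃ U : Y.scheme.Opens,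
      y.1 ∈ U ∧ (y ∈ S → ∀ z ∈ U, z ∈ G → z ∈ ptC Y y.1) := fun y => by
    by_cases hy : y ∈ S
    · obtain ⟨U, hU1, hU2⟩ := (exists_isolating Y G (k := 1) hG).2 y.1
        (show φ y.1 ∈ ptC X x.1 from (hSmem y).1 hy ▸ mem_ptC_self X x.1) y.2
      exact ⟨U, hU1, fun _ => hU2⟩
    · exact ⟨⊤, trivial, fun h => absurd h hy⟩
  choose Uy hUy1 hUy2 using hiso
  let B : Closeds Y.scheme := ⟨(G : Set Y.scheme) \ sepOpen Y S Uy,
    G.isClosed.sdiff (sepOpen Y S Uy).isOpen⟩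
  let O2 : X.scheme.Opens := O ⊔ (O1 ⊓ oMinus X ⊤ ⟨φ '' (B : Set Y.scheme),
    φ.isClosedMap _ B.isClosed⟩)
  have hx2 : x.1 ∈ O2 := Or.inr ⟨hxO1, trivial, by
    rintro ⟨z, ⟨hzG, hzS⟩, hzx⟩
    have hz1 : WeilCoh.codim Y.scheme z = 1 := by
      have h' := hcod z
      rw [hzx, x.2] at h'
      omega
    exact hzS (self_mem_sepOpen Y (x := ⟨z, hz1⟩) ((hSmem _).2 hzx) (hUy1 _))⟩
  have he2 : (O : Set X.scheme) = (O2 : Set X.scheme) \ ptC X x.1 := by
    refine Set.ext fun z => ⟨fun hz => ⟨Or.inl hz, disjoint_ptC_of_not_mem X hxO hz⟩, ?_⟩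
    rintro ⟨hz | hz, hzx⟩
    · exact hz
    · rw [he1]; exact ⟨hz.1, hzx⟩
  have hle2 : O ≤ O2 := le_sup_left
  have hO2 := containsFj_of_le X hO hle2
  let OY2 : Y.scheme.Opens := φ ⁻¹ᵁ O2
  have hleY : OY ≤ OY2 := fun z hz => hle2 hz
  have hG2 : ∀ z ∈ OY2, z ∈ G → z ∈ sepOpen Y S Uy := fun z hz hzG => by
    rcases hz with hz | hz
    · exact absurd hzG (disjoint_ptC_of_not_mem X hxO hz)
    · by_contra hn
      exact hz.2.2 ⟨z, ⟨hzG, hn⟩, rfl⟩
  have hSG : ∀ z, z ∈ ptsC Y S → z ∈ G := fun z hz => by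
    obtain ⟨y, hy, hzy⟩ := (mem_ptsC Y).1 hz
    show φ z ∈ ptC X x.1
    rw [← (hSmem y).1 hy]
    exact specializes_iff_mem_closure.1 ((specializes_iff_mem_closure.2 hzy).map φ.continuous)
  have hGS : ∀ z ∈ OY2, z ∈ G → z ∈ ptsC Y S := fun z hz hzG => by
    obtain ⟨y, hy, hzy, -⟩ := (mem_sepOpen Y).1 (hG2 z hz hzG)
    exact ptC_le_ptsC Y hy (hUy2 y hy z hzy hzG)
  have heY : (OY : Set Y.scheme) = (OY2 : Set Y.scheme) \ ptsC Y S := by
    refine Set.ext fun z => ⟨fun hz => ⟨hleY hz, fun h => ?_⟩, fun hz => ?_⟩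
    · exact disjoint_ptC_of_not_mem X hxO hz (hSG z h)
    · show φ z ∈ (O : Set X.scheme)
      rw [he2]
      exact ⟨hz.1, fun h => hz.2 (hGS z hz.1 h)⟩
  have hsep : Sep Y S OY2 := fun y1 hy1 y2 hy2 z hz hz1 hz2 =>
    eq_of_mem_sepOpen Y hy1 hy2 (hG2 z hz (hSG z (ptC_le_ptsC Y hy1 hz1))) hz1 hz2
  have hSW : ∀ y ∈ S, y.1 ∈ OY2 := fun y hy => show φ y.1 ∈ O2 from (hSmem y).1 hy ▸ hx2
  have hOY2 : BMCoh.ContainsFj Y 0 OY2 := containsFj_of_le Y hOY0 hleY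
  have hdY2 : WeilCoh.dim (OY : Scheme.{u}) = WeilCoh.dim (OY2 : Scheme.{u}) :=
    hdimOY.trans (dim_eq_of_containsFj Y hOY2).symm
  let D := cut X (ptC X x.1) hle2
    ((dim_eq_of_containsFj X hO).trans (dim_eq_of_containsFj X hO2).symm) he2
  rw [BMCoh.PreTheory.ResData.tot_apply, resData_cpt_fjι T X Q x hx2 hO hle2 he2 h2 h2' c]
  rcases S.eq_empty_or_nonempty with hSe | hSne
  · -- an empty fibre: the class extends over `x`
    rw [hSe, Finset.sum_empty]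
    let φ2 : (Y.res OY2).scheme ⟶ (X.res O2).scheme := φ ∣_ O2
    have : IsProper φ2 := inferInstanceAs (IsProper (φ ∣_ O2))
    have hYY : OY2 ≤ OY := fun z hz => by
      rw [← SetLike.mem_coe, heY]
      refine ⟨hz, fun h => ?_⟩
      obtain ⟨y, hy, -⟩ := (mem_ptsC Y).1 h
      rw [hSe] at hy
      exact Finset.notMem_empty y hy
    have hrel2 : BMCoh.relCodim (OY2 : Scheme.{u}) (O2 : Scheme.{u}) = (q : ℤ) := by
      rw [BMCoh.relCodim, dim_eq_of_containsFj X hO2, dim_eq_of_containsFj Y hOY2]; omega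
    have hp1 : i₁ = i₃ + 2 * BMCoh.relCodim (Y.res OY2).scheme (X.res O2).scheme := by
      show _ = _ + 2 * BMCoh.relCodim (OY2 : Scheme.{u}) (O2 : Scheme.{u})
      rw [hrel2, h1, h3]; push_cast; ring
    have hp1' : n₁ = n₃ + BMCoh.relCodim (Y.res OY2).scheme (X.res O2).scheme := by
      show _ = _ + BMCoh.relCodim (OY2 : Scheme.{u}) (O2 : Scheme.{u})
      rw [hrel2, h1', h3']; push_cast; ring
    have hsq := push_pull_apply T (X := Y.res OY2) (Y := X.res O2) (X' := Y.res OY) (Y' := X.res O)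
      φ2 φO D.j (Y.resLE hleY hdY2) (isPullback_morphismRestrict_homOfLE φ hle2) hp1 hp1' hk1 hk1'
      ((T.pull (Y.resLE hYY hdY2.symm) M i₃ n₃).hom aY)
    rw [pull_pull_eq T (Y.resLE hleY hdY2) (Y.resLE hYY hdY2.symm) (𝟙 _)
      ((Y.scheme.homOfLE_homOfLE hleY hYY).trans (Y.scheme.homOfLE_rfl _)), pull_id] at hsq
    refine (congrArg ((T.ptι X x.1 i₂ n₂ (pIdx X x.1 O2 hx2)).app M).hom ?_).trans (map_zero _)
    show (T.res D M i₁ n₁ i₂ n₂ _ _).hom c = 0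
    rw [show c = _ from hsq.symm]
    exact res_pull_open_eq_zero T D _ _ _
  -- the pulled back decomposition and its reduced refinement
  let φ2 : (Y.res OY2).scheme ⟶ (X.res O2).scheme := φ ∣_ O2
  have : IsProper φ2 := inferInstanceAs (IsProper (φ ∣_ O2))
  have : IsProper φO := inferInstanceAs (IsProper (φ ∣_ O))
  let Z' : BMCoh.Obj V := ⟨pullback φ2 (pcι X (ptC X x.1) O2),
    BMCoh.IsConstructible.of_isClosedImmersion (pullback.fst φ2 (pcι X (ptC X x.1) O2))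
      (h := inferInstance) (Y.res OY2).mem⟩
  have hrange : ∀ z : (OY2 : Scheme.{u}),
      z ∈ Set.range (pullback.fst φ2 (pcι X (ptC X x.1) O2)) ↔ OY2.ι z ∈ G := fun z => by
    rw [Scheme.Pullback.range_fst, range_pcι, Set.mem_preimage, Set.mem_preimage]
    show O2.ι (φ2 z) ∈ ptC X x.1 ↔ φ (OY2.ι z) ∈ ptC X x.1
    rw [← Scheme.Hom.comp_apply, morphismRestrict_ι]
    rfl
  let D' : BMCoh.Decomp (Y.res OY2) :=
    { Z := Z', U := Y.res OY, i := pullback.fst φ2 (pcι X (ptC X x.1) O2)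
      closedImm := inferInstance, j := Y.resLE hleY hdY2
      range_eq := by
        show Set.range (Y.scheme.homOfLE hleY) = _
        rw [range_homOfLE_eq]
        ext z
        rw [Set.mem_preimage, heY, Set.mem_compl_iff, hrange]
        exact ⟨fun h h' => h.2 (hGS _ z.2 h'), fun h => ⟨z.2, fun h' => h (hSG _ h')⟩⟩ }
  let D'' := cut Y (ptsC Y S) hleY hdY2 heY
  have hker2 : (clι X (ptC X x.1)).ker ≤ (clι Y (ptsC Y S) ≫ φ).ker := by
    rw [Scheme.IdealSheafData.ker_subschemeι]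
    have hr := isReduced_clSub Y (ptsC Y S)
    exact vanishingIdeal_le_ker _ (ptC X x.1) fun z => hSG _ (clι_mem Y (ptsC Y S) z)
  let ψ : (clSub Y (ptsC Y S)).scheme ⟶ (X.ptSub x.1).scheme :=
    IsClosedImmersion.lift (clι X (ptC X x.1)) (clι Y (ptsC Y S) ≫ φ) hker2
  have hψ : ψ ≫ clι X (ptC X x.1) = clι Y (ptsC Y S) ≫ φ := IsClosedImmersion.lift_fac _ _ _
  let m : D''.Z.scheme ⟶ D.Z.scheme :=
    ψ.resLE (pc X (ptC X x.1) O2) (pc Y (ptsC Y S) OY2) fun z hz => by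
      show clι X (ptC X x.1) (ψ z) ∈ O2
      rw [← Scheme.Hom.comp_apply, hψ]; exact hz
  have hm : pcι Y (ptsC Y S) OY2 ≫ φ2 = m ≫ pcι X (ptC X x.1) O2 := by
    rw [← cancel_mono O2.ι, Category.assoc, Category.assoc, morphismRestrict_ι, pcι_ι,
      ← Category.assoc m, Scheme.Hom.resLE_comp_ι, Category.assoc, hψ, ← Category.assoc,
      pcι_ι, Category.assoc]
  let k : D''.Z.scheme ⟶ Z'.scheme := pullback.lift (pcι Y (ptsC Y S) OY2) m hm
  have hk1'' : k ≫ pullback.fst φ2 (pcι X (ptC X x.1) O2) = pcι Y (ptsC Y S) OY2 :=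
    pullback.lift_fst _ _ _
  have : IsClosedImmersion (k ≫ pullback.fst φ2 (pcι X (ptC X x.1) O2)) := by
    rw [hk1'']; infer_instance
  have : IsClosedImmersion k :=
    IsClosedImmersion.of_comp_isClosedImmersion k (pullback.fst φ2 (pcι X (ptC X x.1) O2))
  have : Surjective k := ⟨fun z => by
    have hz := hGS _ (pullback.fst φ2 (pcι X (ptC X x.1) O2) z).2 ((hrange _).1 ⟨z, rfl⟩)
    have hz' : pullback.fst φ2 (pcι X (ptC X x.1) O2) z ∈ Set.range (pcι Y (ptsC Y S) OY2) := by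
      rw [range_pcι]; exact hz
    obtain ⟨v, hv⟩ := hz'
    refine ⟨v, (pullback.fst φ2 (pcι X (ptC X x.1) O2)).isClosedEmbedding.injective ?_⟩
    rw [← Scheme.Hom.comp_apply, hk1'']
    exact hv⟩
  have hdZ : WeilCoh.dim D''.Z.scheme = WeilCoh.dim Z'.scheme :=
    dim_eq_of_surjective (Z := D''.Z) (Z' := Z') k
  have hcY : D''.codim = 1 := by
    show BMCoh.relCodim _ _ = _
    rw [relCodim_ptsC Y hSne hSW hOY2]; rfl
  have hcD' : D'.codim = 1 := by
    rw [← hcY]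
    show (_ : ℤ) - _ = (_ : ℤ) - _
    rw [hdZ]
  have hcD : D.codim = (q : ℤ) + 1 := by
    show BMCoh.relCodim _ _ = _
    rw [relCodim_pc X hx2 x.2 hO2]; push_cast; rfl
  have hi'' : i₂ = i₃ + 1 - 2 * D''.codim := by rw [hcY, h4]; push_cast; ring
  have hn'' : n₂ = n₃ - D''.codim := by rw [hcY, h4']; push_cast; ring
  have hi' : i₂ = i₃ + 1 - 2 * D'.codim := by rw [hcD', h4]; push_cast; ring
  have hn' : n₂ = n₃ - D'.codim := by rw [hcD', h4']; push_cast; ring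
  have hk0 : BMCoh.relCodim D''.Z.scheme D'.Z.scheme = 0 := by
    rw [BMCoh.relCodim, hdZ, sub_self]
  have hZD : BMCoh.relCodim D'.Z.scheme D.Z.scheme = 0 := by
    rw [BMCoh.relCodim, ← hdZ]
    have h5 := dim_pc X x.1 hx2
    have h6 := dim_pc_ptsC Y hSne hSW
    have h7 := (codim_eq_iff X x.1 (q + 1)).1 x.2
    show (WeilCoh.dim ((pc X (ptC X x.1) O2 : (X.ptSub x.1).scheme.Opens) : Scheme.{u}) : ℤ) -
      (WeilCoh.dim ((pc Y (ptsC Y S) OY2 : (clSub Y (ptsC Y S)).scheme.Opens) : Scheme.{u}) : ℤ) = 0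
    omega
  have hm0 : BMCoh.relCodim D''.Z.scheme D.Z.scheme = 0 := by
    rw [BMCoh.relCodim] at hk0 hZD ⊢; omega
  let fZ : D'.Z.scheme ⟶ D.Z.scheme := pullback.snd φ2 (pcι X (ptC X x.1) O2)
  have : IsProper fZ := inferInstanceAs (IsProper (pullback.snd φ2 (pcι X (ptC X x.1) O2)))
  let r := (T.res D'' M i₃ n₃ i₂ n₂ hi'' hn'').hom aY
  have e1 : i₂ = i₂ + 2 * BMCoh.relCodim D''.Z.scheme D'.Z.scheme := by rw [hk0]; ring
  have e1' : n₂ = n₂ + BMCoh.relCodim D''.Z.scheme D'.Z.scheme := by rw [hk0]; ring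
  have e2 : i₂ = i₂ + 2 * BMCoh.relCodim D'.Z.scheme D.Z.scheme := by rw [hZD]; ring
  have e2' : n₂ = n₂ + BMCoh.relCodim D'.Z.scheme D.Z.scheme := by rw [hZD]; ring
  have e3 : i₂ = i₂ + 2 * BMCoh.relCodim D''.Z.scheme D.Z.scheme := by rw [hm0]; ring
  have e3' : n₂ = n₂ + BMCoh.relCodim D''.Z.scheme D.Z.scheme := by rw [hm0]; ring
  have : IsProper (k ≫ fZ) := inferInstance
  have hkm : k ≫ fZ = m := pullback.lift_snd _ _ _
  have : IsProper m := hkm ▸ inferInstanceAs (IsProper (k ≫ fZ))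
  have hres : ∀ (u1 : i₂ = i₁ + 1 - 2 * D.codim) (u2 : n₂ = n₁ - D.codim),
      (T.res D M i₁ n₁ i₂ n₂ u1 u2).hom c = (T.push m M i₂ n₂ i₂ n₂ e3 e3').hom r := by
    intro u1 u2
    have hA := congr($(T.res_push D D' φ2 fZ φO (IsPullback.of_hasPullback _ _)
      (isPullback_morphismRestrict_homOfLE φ hle2) M i₃ n₃ i₂ n₂ i₁ n₁ i₂ n₂
      hi' hn' hk1 hk1' e2 e2' u1 u2) aY)
    have hB := congr($(hred (Y.res OY2) D' D'' (𝟙 _) k
      (BMCoh.Hom.ext (Category.id_comp _)) hk1'' M i₃ n₃ i₂ n₂ hi' hn' hi'' hn'' e1 e1') aY)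
    simp only [ModuleCat.hom_comp, LinearMap.comp_apply] at hA hB
    rw [pull_id] at hB
    rw [← hB] at hA
    refine hA.symm.trans ?_
    refine (congr($(T.push_comp k fZ M i₂ n₂ i₂ n₂ i₂ n₂ e1 e1' e2 e2' e3 e3') r)).trans ?_
    rw [push_congr T hkm]
  refine (congrArg ((T.ptι X x.1 i₂ n₂ (pIdx X x.1 O2 hx2)).app M).hom (hres _ _)).trans ?_
  conv_lhs => rw [eq_sum_cpush_pull T S.attach hSne.attach
    (fun y : ↥S => (Y.ptSub y.1.1).res (pc Y (ptC Y y.1.1) OY2))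
    (fun y => pieceHom Y hsep hSW y.1 y.2)
    (fun y _ y' _ hne => disjoint_range_pieceHom Y hsep hSW y.2 y'.2 fun e => hne (Subtype.ext e))
    (fun z => by
      obtain ⟨y, hy⟩ := exists_mem_range_pieceHom Y hsep hSW z
      exact ⟨y, Finset.mem_attach _ _, hy⟩) r]
  rw [map_sum, map_sum, ← Finset.sum_attach S]
  refine Finset.sum_congr rfl fun y _ => ?_
  rw [dif_pos (ht y.1 y.2), BMCoh.PreTheory.ResData.tot_apply,
    resData_cpt_cut' T Y Q' hOY0 hleY heY hsep hSW y.1 y.2 hdY2 h4 h4' hi'' hn'' aY]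
  generalize (ht y.1 y.2 ▸ F y.1 : T.PtPush φ y.1.1 x.1) = G'
  let g := pieceHom Y hsep hSW y.1 y.2
  let f' : ((Y.ptSub y.1.1).res (pIdx Y y.1.1 OY2 (hSW y.1 y.2)).1).scheme ⟶
      ((X.ptSub x.1).res (pIdx X x.1 O2 hx2).1).scheme := g.hom ≫ m
  have : IsProper f' := inferInstanceAs (IsProper (g.hom ≫ m))
  have hf0 : BMCoh.relCodim ((Y.ptSub y.1.1).res (pIdx Y y.1.1 OY2 (hSW y.1 y.2)).1).scheme
      ((X.ptSub x.1).res (pIdx X x.1 O2 hx2).1).scheme = 0 := by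
    show BMCoh.relCodim ((pc Y (ptC Y y.1.1) OY2 : (Y.ptSub y.1.1).scheme.Opens) : Scheme.{u})
      ((pc X (ptC X x.1) O2 : (X.ptSub x.1).scheme.Opens) : Scheme.{u}) = 0
    rw [BMCoh.relCodim, dim_pc X x.1 hx2, dim_pc Y y.1.1 (hSW y.1 y.2), ← (hSmem y.1).1 y.2,
      hp, sub_self]
  have hcond : f' ≫ (pIdx X x.1 O2 hx2).1.ι ≫ X.ptSubι x.1 =
      (pIdx Y y.1.1 OY2 (hSW y.1 y.2)).1.ι ≫ Y.ptSubι y.1.1 ≫ φ := by
    show (g.hom ≫ m) ≫ (pc X (ptC X x.1) O2).ι ≫ clι X (ptC X x.1) =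
      (pc Y (ptC Y y.1.1) OY2).ι ≫ clι Y (ptC Y y.1.1) ≫ φ
    rw [← pcι_ι, Category.assoc, ← Category.assoc m, ← hm, Category.assoc, morphismRestrict_ι,
      ← Category.assoc (pcι Y (ptsC Y S) OY2), ← Category.assoc g.hom,
      ← Category.assoc g.hom, pieceHom_pcι, pcι_ι, Category.assoc]
  have u1 : i₂ = i₂ + 2 * BMCoh.relCodim
      ((Y.ptSub y.1.1).res (pIdx Y y.1.1 OY2 (hSW y.1 y.2)).1).scheme
      ((X.ptSub x.1).res (pIdx X x.1 O2 hx2).1).scheme := by rw [hf0]; ring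
  have u2 : n₂ = n₂ + BMCoh.relCodim
      ((Y.ptSub y.1.1).res (pIdx Y y.1.1 OY2 (hSW y.1 y.2)).1).scheme
      ((X.ptSub x.1).res (pIdx X x.1 O2 hx2).1).scheme := by rw [hf0]; ring
  refine Eq.trans ?_ (congr($(G'.cpt_spec M i₂ n₂ (pIdx Y y.1.1 OY2 (hSW y.1 y.2))
    (pIdx X x.1 O2 hx2) f' hcond u1 u2) ((T.pull g M i₂ n₂).hom r))).symm
  exact congrArg _ (push_cpush T g m f' rfl e3 e3' u1 u2 _)

end Groth.Agent.BMCohLib
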