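import Groth.Agent.BMCohLib.Step
import Groth.Prelude.Def_BMCoh3

/-!
# Residue and push-forward data on representatives; kernels of the restriction maps
-/

set_option autoImplicit false
set_option linter.unusedSectionVars false

universe u

open AlgebraicGeometry CategoryTheory CategoryTheory.Limits Opposite TopologicalSpace

noncomputable section

namespace Groth.Agent.BMCohLib

variable {V : ObjectProperty Scheme.{u}} [BMCoh.IsConstructible V] {R : Type u} [CommRing R]
  {A : BMCoh.Coefs R} (T : BMCoh.PreTheory V R A) (X : BMCoh.Obj V) {j : ℕ}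
  {M : A.Cat} {i n i' n' : ℤ}

theorem fjRes_fjι {m : ℕ} (h : j ≤ m) (U : BMCoh.Idx X (BMCoh.ContainsFj X m))
    (a : T.gp (X.res U.1) M i n) :
    ((T.fjRes X h i n).app M).hom (((T.fjι X m i n U).app M).hom a) =
      ((T.fjι X j i n (fIdx X j U.1 (BMCoh.containsFj_mono X h _ U.2.1))).app M).hom a :=
  oc_map_ι T _ U a

theorem pushData_cpt_ptι (P : T.PushData X j) (x : X.cdPt j) {U : X.scheme.Opens}
    (hx : x.1 ∈ U) (hU : BMCoh.ContainsFj X j U) (hi : i' = i + 2 * (j : ℤ))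
    (hn : n' = n + (j : ℤ)) (b : T.gp ((X.ptSub x.1).res (pIdx X x.1 U hx).1) M i n) :
    (P.cpt x M i n i' n' hi hn).hom (((T.ptι X x.1 i n (pIdx X x.1 U hx)).app M).hom b) =
      ((T.fjι X j i' n' (fIdx X j U hU)).app M).hom
        ((pcPush T X hx hU x.2 M i n i' n' hi hn).hom b) :=
  congr($(P.cpt_spec x M i n i' n' hi hn (fIdx X j U hU) (pIdx X x.1 U hx) (pcι X (ptC X x.1) U)
    (pcι_ι X (ptC X x.1) U) _ _) b)

theorem resData_cpt_fjι (Q : T.ResData X j) (x : X.cdPt (j + 1)) {U O : X.scheme.Opens}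
    (hx : x.1 ∈ O) (hU : BMCoh.ContainsFj X j U) (hle : U ≤ O)
    (he : (U : Set X.scheme) = (O : Set X.scheme) \ ptC X x.1)
    (hi : i' = i + 1 - 2 * ((j : ℤ) + 1)) (hn : n' = n - ((j : ℤ) + 1))
    (a : T.gp (X.res U) M i n) :
    (Q.cpt x M i n i' n' hi hn).hom (((T.fjι X j i n (fIdx X j U hU)).app M).hom a) =
      (ptRes T X hx hU hle he x.2 M i n i' n' hi hn).hom a := by
  have hc := containsFj_of_le X hU hle
  have h := congr($(Q.cpt_spec x M i n i' n' hi hn (Y := X.res O)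
    (X.resι O (dim_eq_of_containsFj X hc))
    (cut X (ptC X x.1) hle ((dim_eq_of_containsFj X hU).trans (dim_eq_of_containsFj X hc).symm) he)
    (pIdx X x.1 O hx) (𝟙 _) (by
      show 𝟙 _ ≫ pcι X (ptC X x.1) O ≫ O.ι = _
      rw [Category.id_comp]
      exact pcι_ι X (ptC X x.1) O)
    (fIdx X j U hU) (𝟙 _) (by
      show 𝟙 _ ≫ X.scheme.homOfLE hle ≫ O.ι = U.ι
      rw [Category.id_comp, Scheme.homOfLE_ι])
    (by show i' = i + 1 - 2 * BMCoh.relCodim _ _
        rw [relCodim_pc X hx x.2 hc]; push_cast; exact hi)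
    (by show n' = n - BMCoh.relCodim _ _
        rw [relCodim_pc X hx x.2 hc]; push_cast; exact hn)) a)
  simp only [ModuleCat.hom_comp, LinearMap.comp_apply] at h
  rw [pull_id, pull_id] at h
  exact h

theorem resData_cpt_eq_zero_of_mem (Q : T.ResData X j) (x : X.cdPt (j + 1))
    (U : BMCoh.Idx X (BMCoh.ContainsFj X j)) (hx : x.1 ∈ U.1)
    (hi : i' = i + 1 - 2 * ((j : ℤ) + 1)) (hn : n' = n - ((j : ℤ) + 1))
    (a : T.gp (X.res U.1) M i n) :
    (Q.cpt x M i n i' n' hi hn).hom (((T.fjι X j i n U).app M).hom a) = 0 := by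
  let U0 := oMinus X U.1 (ptC X x.1)
  have h0 : BMCoh.ContainsFj X j U0 :=
    containsFj_oMinus X U.2.1 (k := j + 1) (fun y hy => x.2 ▸ codim_of_mem_ptC X hy) (Nat.lt_succ_self j)
  have hle : U0 ≤ U.1 := oMinus_le X _ _
  rw [← oc_ι_pull T (U := fIdx X j U0 h0) (U' := U) hle a,
    resData_cpt_fjι T X Q x hx h0 hle rfl hi hn]
  refine (congrArg ((T.ptι X x.1 i' n' (pIdx X x.1 U.1 hx)).app M).hom ?_).trans (map_zero _)
  exact res_pull_open_eq_zero T (cut X (ptC X x.1) hle _ rfl) _ _ a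

theorem fjRes_pushData_cpt_eq_zero (P : T.PushData X (j + 1)) (x : X.cdPt (j + 1))
    (hi : i' = i + 2 * ((j + 1 : ℕ) : ℤ)) (hn : n' = n + ((j + 1 : ℕ) : ℤ))
    (ξ : T.ptGp X x.1 M i n) :
    ((T.fjRes X (Nat.le_succ j) i' n').app M).hom ((P.cpt x M i n i' n' hi hn).hom ξ) = 0 := by
  obtain ⟨O, hO, hxO, b, rfl⟩ := exists_rep_closed T X x.2 ξ
  rw [pushData_cpt_ptι T X P x hxO hO hi hn b, fjRes_fjι]
  let U0 := oMinus X O (ptC X x.1)
  have h0 : BMCoh.ContainsFj X j U0 :=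
    containsFj_oMinus X (BMCoh.containsFj_mono X (Nat.le_succ j) _ hO) (k := j + 1)
      (fun y hy => x.2 ▸ codim_of_mem_ptC X hy) (Nat.lt_succ_self j)
  have hle : U0 ≤ O := oMinus_le X _ _
  rw [← oc_ι_pull T (U := fIdx X j U0 h0) (U' := fIdx X j O _) hle]
  refine (congrArg _ ?_).trans (map_zero _)
  exact push_pull_open_eq_zero T (cut X (ptC X x.1) hle _ rfl) _ _ b

/-- the kernel of `H(F_{j+1}) → H(F_j)` is generated by push forwards from the points of
codimension `j + 1` -/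
theorem mem_of_fjRes_eq_zero (hi : i' = i + 2 * ((j + 1 : ℕ) : ℤ))
    (hn : n' = n + ((j + 1 : ℕ) : ℤ)) (N : Submodule R (T.fjGp X (j + 1) M i' n'))
    (H : ∀ (U : X.scheme.Opens) (hU : BMCoh.ContainsFj X (j + 1) U) (x : X.scheme) (hx : x ∈ U)
      (hk : WeilCoh.codim X.scheme x = j + 1)
      (b : T.gp ((X.ptSub x).res (pIdx X x U hx).1) M i n),
      ((T.fjι X (j + 1) i' n' (fIdx X (j + 1) U hU)).app M).hom
        ((pcPush T X hx hU hk M i n i' n' hi hn).hom b) ∈ N)
    (ξ : T.fjGp X (j + 1) M i' n')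
    (h0 : ((T.fjRes X (Nat.le_succ j) i' n').app M).hom ξ = 0) : ξ ∈ N := by
  classical
  suffices key : ∀ (S : Finset X.scheme) (U U' : X.scheme.Opens)
      (hU : BMCoh.ContainsFj X (j + 1) U) (hU' : BMCoh.ContainsFj X j U') (hle : U' ≤ U)
      (a : T.gp (X.res U) M i' n'),
      (∀ y, WeilCoh.codim X.scheme y = j + 1 → y ∉ U' → y ∈ S) →
      (T.pull (X.resLE hle
        ((dim_eq_of_containsFj X hU').trans (dim_eq_of_containsFj X hU).symm)) M i' n').hom a = 0 →
      ((T.fjι X (j + 1) i' n' (fIdx X (j + 1) U hU)).app M).hom a ∈ N by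
    obtain ⟨U, a, rfl⟩ := oc_rep T i' n' M (idxDir_fj X (j + 1)) ξ
    rw [fjRes_fjι] at h0
    obtain ⟨W, h, hW⟩ := oc_eq_zero T (idxDir_fj X j)
      (U := fIdx X j U.1 (BMCoh.containsFj_mono X (Nat.le_succ j) _ U.2.1)) a h0
    obtain ⟨S, hS⟩ := exists_finset_missing X W.2.1
    exact key S U.1 W.1 U.2.1 W.2.1 h a hS hW
  intro S
  induction S using Finset.induction with
  | empty =>
    intro U U' hU hU' hle a hS ha
    have h' : BMCoh.ContainsFj X (j + 1) U' := fun y hy => by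
      by_contra hyU
      have := succ_le_codim_of_not_mem X hU' hyU
      exact absurd (hS y (le_antisymm hy this) hyU) (Finset.notMem_empty y)
    rw [← oc_ι_pull T (U := fIdx X (j + 1) U' h') (U' := fIdx X (j + 1) U hU) hle a]
    have hz : ((T.fjι X (j + 1) i' n' (fIdx X (j + 1) U' h')).app M).hom
        ((T.pull (ilink (show fIdx X (j + 1) U' h' ≤ fIdx X (j + 1) U hU from hle)) M i' n').hom a)
          = 0 :=
      (congrArg ((T.fjι X (j + 1) i' n' (fIdx X (j + 1) U' h')).app M).hom ha).trans (map_zero _)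
    exact hz.symm ▸ N.zero_mem
  | insert x S hxS ih =>
    intro U U' hU hU' hle a hS ha
    by_cases hcase : WeilCoh.codim X.scheme x = j + 1 ∧ x ∉ U'
    · obtain ⟨hk, hxU'⟩ := hcase
      obtain ⟨U2, U1, hU2, hU1, hx2, h21, h2, b, hU'1, hx1, hz⟩ :=
        exists_support T X hU hU' hle hk hxU' hi hn a ha
      have hrec := ih U2 U1 hU2 hU1 h21 _ (fun y hy hy1 => by
        rcases Finset.mem_insert.1 (hS y hy fun h => hy1 (hU'1 h)) with rfl | h
        · exact absurd hx1 hy1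
        · exact h) hz
      rw [map_sub, ← sub_add_cancel (((T.fjι X (j + 1) i' n' (fIdx X (j + 1) U hU)).app M).hom a)
        (((T.fjι X (j + 1) i' n' (fIdx X (j + 1) U2 hU2)).app M).hom
          ((pcPush T X hx2 hU2 hk M i n i' n' hi hn).hom b))] at *
      refine N.add_mem ?_ (H U2 hU2 x hx2 hk b)
      rw [← oc_ι_pull T (U := fIdx X (j + 1) U2 hU2) (U' := fIdx X (j + 1) U hU) h2 a]
      exact hrec
    · exact ih U U' hU hU' hle a (fun y hy hyU => (Finset.mem_insert.1 (hS y hy hyU)).resolve_left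
        (by rintro rfl; exact hcase ⟨hy, hyU⟩)) ha

/-- a class of `H(F_j)` without residues at codimension `j + 1` extends to `H(F_{j+1})` -/
theorem mem_range_fjRes (hi : i' = i + 1 - 2 * ((j : ℤ) + 1)) (hn : n' = n - ((j : ℤ) + 1))
    (ξ : T.fjGp X j M i n)
    (H : ∀ (U O : X.scheme.Opens) (hU : BMCoh.ContainsFj X j U) (x : X.scheme) (hx : x ∈ O)
      (hle : U ≤ O) (he : (U : Set X.scheme) = (O : Set X.scheme) \ ptC X x)
      (hk : WeilCoh.codim X.scheme x = j + 1) (a : T.gp (X.res U) M i n),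
      ((T.fjι X j i n (fIdx X j U hU)).app M).hom a = ξ →
      (ptRes T X hx hU hle he hk M i n i' n' hi hn).hom a = 0) :
    ξ ∈ LinearMap.range ((T.fjRes X (Nat.le_succ j) i n).app M).hom := by
  classical
  suffices key : ∀ (S : Finset X.scheme) (U : BMCoh.Idx X (BMCoh.ContainsFj X j))
      (a : T.gp (X.res U.1) M i n),
      (∀ y, WeilCoh.codim X.scheme y = j + 1 → y ∉ U.1 → y ∈ S) →
      ((T.fjι X j i n U).app M).hom a = ξ →
      ξ ∈ LinearMap.range ((T.fjRes X (Nat.le_succ j) i n).app M).hom by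
    obtain ⟨U, a, ha⟩ := oc_rep T i n M (idxDir_fj X j) ξ
    obtain ⟨S, hS⟩ := exists_finset_missing X U.2.1
    exact key S U a hS ha
  intro S
  induction S using Finset.induction with
  | empty =>
    intro U a hS ha
    have h' : BMCoh.ContainsFj X (j + 1) U.1 := fun y hy => by
      by_contra hyU
      have := succ_le_codim_of_not_mem X U.2.1 hyU
      exact absurd (hS y (le_antisymm hy this) hyU) (Finset.notMem_empty y)
    exact ⟨((T.fjι X (j + 1) i n (fIdx X (j + 1) U.1 h')).app M).hom a,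
      (fjRes_fjι T X (Nat.le_succ j) (fIdx X (j + 1) U.1 h') a).trans ha⟩
  | insert x S hxS ih =>
    intro U a hS ha
    by_cases hcase : WeilCoh.codim X.scheme x = j + 1 ∧ x ∉ U.1
    · obtain ⟨hk, hxU⟩ := hcase
      obtain ⟨O, hle, hxO, he⟩ := exists_adjoin X U.2.1 hk hxU
      obtain ⟨U1, h, b, hx1, hb⟩ := exists_extend T X hxO U.2.1 hle he hk hi hn a
        (H U.1 O U.2.1 x hxO hle he hk a ha)
      refine ih U1 b (fun y hy hy1 => ?_) ?_
      · rcases Finset.mem_insert.1 (hS y hy fun h' => hy1 (h h')) with rfl | h'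
        · exact absurd hx1 hy1
        · exact h'
      · rw [← oc_ι_pull T h b]
        exact (congrArg _ hb).trans ha
    · exact ih U a (fun y hy hyU => (Finset.mem_insert.1 (hS y hy hyU)).resolve_left
        (by rintro rfl; exact hcase ⟨hy, hyU⟩)) ha

theorem fjRes_injective
    (h0 : ∀ x : X.scheme, WeilCoh.codim X.scheme x = j + 1 → IsZero (T.ptGp X x M i n))
    (hi : i' = i + 2 * ((j + 1 : ℕ) : ℤ)) (hn : n' = n + ((j + 1 : ℕ) : ℤ)) :
    Function.Injective ((T.fjRes X (Nat.le_succ j) i' n').app M).hom :=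
  (injective_iff_map_eq_zero _).2 fun ξ hξ => (Submodule.mem_bot R).1
    (mem_of_fjRes_eq_zero T X hi hn ⊥ (fun _U hU x hx hk b => (Submodule.mem_bot R).2
      (fjι_pcPush_eq_zero T X hx hU hk hi hn b (eq_zero_of_isZero (h0 x hk) _))) ξ hξ)

theorem fjRes_surjective
    (h1 : ∀ x : X.scheme, WeilCoh.codim X.scheme x = j + 1 → IsZero (T.ptGp X x M i' n'))
    (hi : i' = i + 1 - 2 * ((j : ℤ) + 1)) (hn : n' = n - ((j : ℤ) + 1)) :
    Function.Surjective ((T.fjRes X (Nat.le_succ j) i n).app M).hom :=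
  fun ξ => mem_range_fjRes T X hi hn ξ fun _ _ _ x _ _ _ hk _ _ => eq_zero_of_isZero (h1 x hk) _

theorem subsingleton_pushData : Subsingleton (T.PushData X j) := by
  refine ⟨fun P P' => ?_⟩
  suffices h : P.cpt = P'.cpt by
    cases P; cases P'
    congr
  funext x M i n i' n' hi hn
  refine ModuleCat.hom_ext (LinearMap.ext fun ξ => ?_)
  obtain ⟨O, hO, hxO, b, rfl⟩ := exists_rep_closed T X x.2 ξ
  rw [pushData_cpt_ptι T X P x hxO hO hi hn b, pushData_cpt_ptι T X P' x hxO hO hi hn b]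

theorem subsingleton_resData : Subsingleton (T.ResData X j) := by
  refine ⟨fun Q Q' => ?_⟩
  suffices h : Q.cpt = Q'.cpt by
    cases Q; cases Q'
    congr
  funext x M i n i' n' hi hn
  refine ModuleCat.hom_ext (LinearMap.ext fun ξ => ?_)
  obtain ⟨U, a, rfl⟩ := oc_rep T i n M (idxDir_fj X j) ξ
  by_cases hx : x.1 ∈ U.1
  · rw [resData_cpt_eq_zero_of_mem T X Q x U hx hi hn a,
      resData_cpt_eq_zero_of_mem T X Q' x U hx hi hn a]
  · obtain ⟨O, hle, hxO, he⟩ := exists_adjoin X U.2.1 x.2 hx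
    exact (resData_cpt_fjι T X Q x hxO U.2.1 hle he hi hn a).trans
      (resData_cpt_fjι T X Q' x hxO U.2.1 hle he hi hn a).symm

theorem exact_fjRes_resTot (Q : T.ResData X j) (hi : i' = i + 1 - 2 * ((j : ℤ) + 1))
    (hn : n' = n - ((j : ℤ) + 1)) :
    Function.Exact ((T.fjRes X (Nat.le_succ j) i n).app M).hom
      (Q.tot M i n i' n' hi hn).hom := by
  intro ξ
  constructor
  · intro h
    refine mem_range_fjRes T X hi hn ξ fun U O hU x hx hle he hk a ha => ?_
    rw [← resData_cpt_fjι T X Q ⟨x, hk⟩ hx hU hle he hi hn a, ha, ← Q.tot_apply M i n i' n' hi hn ξ,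
      h]
    rfl
  · rintro ⟨η, rfl⟩
    refine DFinsupp.ext fun x => ?_
    obtain ⟨U, a, rfl⟩ := oc_rep T i n M (idxDir_fj X (j + 1)) η
    rw [fjRes_fjι, BMCoh.PreTheory.ResData.tot_apply]
    exact resData_cpt_eq_zero_of_mem T X Q x
      (fIdx X j U.1 (BMCoh.containsFj_mono X (Nat.le_succ j) _ U.2.1)) (U.2.1 _ x.2.le) hi hn a

theorem exact_pushTot_fjRes (P : T.PushData X (j + 1)) (hi : i' = i + 2 * ((j + 1 : ℕ) : ℤ))
    (hn : n' = n + ((j + 1 : ℕ) : ℤ)) :
    Function.Exact (P.tot M i n i' n' hi hn).hom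
      ((T.fjRes X (Nat.le_succ j) i' n').app M).hom := by
  classical
  intro ξ
  constructor
  · intro h
    refine mem_of_fjRes_eq_zero T X hi hn (LinearMap.range (P.tot M i n i' n' hi hn).hom)
      (fun U hU x hx hk b => ?_) ξ h
    exact ⟨DirectSum.lof R (X.cdPt (j + 1)) (fun y : X.cdPt (j + 1) => T.ptGp X y.1 M i n) ⟨x, hk⟩
      (((T.ptι X x i n (pIdx X x U hx)).app M).hom b),
      (P.tot_lof M i n i' n' hi hn ⟨x, hk⟩ _).trans
        (pushData_cpt_ptι T X P ⟨x, hk⟩ hx hU hi hn b)⟩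
  · rintro ⟨w, rfl⟩
    induction w using DirectSum.induction_on with
    | zero => rw [map_zero, map_zero]
    | of x b =>
      rw [← DirectSum.lof_eq_of R, P.tot_lof]
      exact fjRes_pushData_cpt_eq_zero T X P x hi hn b
    | add b c hb hc => rw [map_add, map_add, hb, hc, add_zero]

end Groth.Agent.BMCohLib
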