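import Groth.Agent.DimTheory.Scheme
import Groth.Agent.FpqcDescent.ReducedSub
import Groth.Prelude.Def_BMCoh3

/-!
# Dimensions of points of objects of a constructible class

`pdim` as the height of a point for the specialisation order, its behaviour under closed and open
immersions and closed maps, and the dimension of opens containing the points of small codimension.
-/

set_option autoImplicit false

universe u

open AlgebraicGeometry CategoryTheory TopologicalSpace

namespace Groth.Agent.BMCohLib

variable {V : ObjectProperty Scheme.{u}} [BMCoh.IsConstructible V]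

/-- membership in `V` implies that heights of points are finite -/
theorem height_lt_top (X : BMCoh.Obj V) (x : X.scheme) : Order.height x < ⊤ := by
  have h : topologicalKrullDim X.scheme < ⊤ := BMCoh.IsConstructible.finiteDim X.mem
  rw [DimTheory.topologicalKrullDim_eq_iSup_height] at h
  have h' := lt_of_le_of_lt (le_iSup (fun z : X.scheme => (Order.height z : WithBot ℕ∞)) x) h
  exact WithBot.coe_lt_coe.1 h'

theorem pdim_eq_toNat (X : Scheme.{u}) (x : X) :
    WeilCoh.pdim X x = (Order.height x).toNat := by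
  unfold WeilCoh.pdim WeilCoh.natDim
  rw [DimTheory.topologicalKrullDim_closure]
  rfl

theorem height_eq (X : BMCoh.Obj V) (x : X.scheme) :
    Order.height x = (WeilCoh.pdim X.scheme x : ℕ∞) := by
  rw [pdim_eq_toNat, ENat.natCast_toNat (height_lt_top X x).ne]

theorem pdim_mono (X : BMCoh.Obj V) {x y : X.scheme} (h : y ⤳ x) :
    WeilCoh.pdim X.scheme x ≤ WeilCoh.pdim X.scheme y := by
  have h1 := Order.height_mono (show x ≤ y from h)
  rw [height_eq, height_eq, Nat.cast_le] at h1
  exact h1

theorem pdim_lt (X : BMCoh.Obj V) {x y : X.scheme} (h : y ⤳ x) (hne : x ≠ y) :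
    WeilCoh.pdim X.scheme x < WeilCoh.pdim X.scheme y := by
  have h1 : x < y := lt_of_le_not_ge (show x ≤ y from h)
    fun h' => hne (Specializes.antisymm (show x ⤳ y from h') h).eq
  have h2 := Order.height_strictMono h1 (height_lt_top X x)
  rw [height_eq, height_eq, Nat.cast_lt] at h2
  exact h2

theorem pdim_le_dim (X : BMCoh.Obj V) (x : X.scheme) :
    WeilCoh.pdim X.scheme x ≤ WeilCoh.dim X.scheme := by
  have h : topologicalKrullDim X.scheme < ⊤ := BMCoh.IsConstructible.finiteDim X.mem
  have h1 := le_iSup (fun z : X.scheme => (Order.height z : WithBot ℕ∞)) x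
  rw [← DimTheory.topologicalKrullDim_eq_iSup_height] at h1
  rw [height_eq] at h1
  unfold WeilCoh.dim WeilCoh.natDim
  obtain ⟨e, he⟩ : ∃ e : ℕ, topologicalKrullDim X.scheme = ((e : ℕ∞) : WithBot ℕ∞) := by
    revert h h1
    generalize topologicalKrullDim X.scheme = D
    intro h h1
    cases D with
    | bot => exact absurd h1 (by simp)
    | coe e =>
      obtain ⟨e, rfl⟩ := ENat.ne_top_iff_exists.1 (WithBot.coe_lt_coe.1 h).ne
      exact ⟨e, rfl⟩
  rw [he] at h1 ⊢
  simpa using h1

theorem exists_pdim_eq_dim (X : BMCoh.Obj V) [Nonempty X.scheme] :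
    ∃ x : X.scheme, WeilCoh.pdim X.scheme x = WeilCoh.dim X.scheme := by
  classical
  have hb : BddAbove (Set.range fun z : X.scheme => WeilCoh.pdim X.scheme z) :=
    ⟨_, by rintro _ ⟨z, rfl⟩; exact pdim_le_dim X z⟩
  obtain ⟨x, hx⟩ := Nat.sSup_mem (Set.range_nonempty _) hb
  refine ⟨x, le_antisymm (pdim_le_dim X x) ?_⟩
  have h1 : topologicalKrullDim X.scheme ≤
      ((WeilCoh.pdim X.scheme x : ℕ∞) : WithBot ℕ∞) := by
    rw [DimTheory.topologicalKrullDim_eq_iSup_height]
    refine iSup_le fun z => WithBot.coe_le_coe.2 ?_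
    rw [height_eq, Nat.cast_le]
    exact (le_csSup hb ⟨z, rfl⟩).trans hx.ge
  unfold WeilCoh.dim WeilCoh.natDim
  revert h1
  generalize topologicalKrullDim X.scheme = D
  intro h1
  cases D with
  | bot => exact Nat.zero_le _
  | coe e =>
    have := WithBot.coe_le_coe.1 h1
    exact ENat.toNat_le_of_le_natCast this

theorem dim_le_of_forall (X : BMCoh.Obj V) (k : ℕ)
    (h : ∀ x : X.scheme, WeilCoh.pdim X.scheme x ≤ k) : WeilCoh.dim X.scheme ≤ k := by
  rcases isEmpty_or_nonempty X.scheme with h0 | h0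
  · have : topologicalKrullDim X.scheme = ⊥ := by
      rw [DimTheory.topologicalKrullDim_eq_iSup_height, iSup_of_empty]
    unfold WeilCoh.dim WeilCoh.natDim
    rw [this]
    exact Nat.zero_le _
  · obtain ⟨x, hx⟩ := exists_pdim_eq_dim X
    exact hx ▸ h x

theorem exists_pdim_eq (X : BMCoh.Obj V) [Nonempty X.scheme] {k : ℕ}
    (hk : k ≤ WeilCoh.dim X.scheme) : ∃ x : X.scheme, WeilCoh.pdim X.scheme x = k := by
  obtain ⟨y, hy⟩ := exists_pdim_eq_dim X
  obtain ⟨l, hl, hlen⟩ := Order.exists_series_of_height_eq_coe y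
    ((height_eq X y).trans (congrArg _ hy))
  refine ⟨l ⟨k, by omega⟩, ?_⟩
  have h1 := Order.height_eq_index_of_length_eq_height_last (p := l)
    (by rw [hl, height_eq, hlen, hy]) ⟨k, by omega⟩
  rw [height_eq] at h1
  exact_mod_cast h1

theorem codim_eq_iff (X : BMCoh.Obj V) (x : X.scheme) (k : ℕ) :
    WeilCoh.codim X.scheme x = k ↔ WeilCoh.pdim X.scheme x + k = WeilCoh.dim X.scheme := by
  have := pdim_le_dim X x
  unfold WeilCoh.codim
  omega

omit [BMCoh.IsConstructible V] in
theorem codim_le_iff (X : BMCoh.Obj V) (x : X.scheme) (k : ℕ) :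
    WeilCoh.codim X.scheme x ≤ k ↔ WeilCoh.dim X.scheme ≤ WeilCoh.pdim X.scheme x + k := by
  unfold WeilCoh.codim
  omega

/-- embeddings do not increase `pdim` -/
theorem pdim_le_of_isInducing {X Y : BMCoh.Obj V} (f : X.scheme ⟶ Y.scheme)
    (hf : Topology.IsEmbedding f) (x : X.scheme) :
    WeilCoh.pdim X.scheme x ≤ WeilCoh.pdim Y.scheme (f x) := by
  have h1 := Order.height_le_height_apply_of_strictMono (fun z : X.scheme => f z)
    (fun a b h => by
      rw [lt_iff_le_not_ge] at h ⊢
      exact ⟨hf.isInducing.specializes_iff.2 h.1,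
        fun h' => h.2 (hf.isInducing.specializes_iff.1 h')⟩) x
  rw [height_eq, height_eq, Nat.cast_le] at h1
  exact h1

theorem dim_le_of_isEmbedding {X Y : BMCoh.Obj V} (f : X.scheme ⟶ Y.scheme)
    (hf : Topology.IsEmbedding f) : WeilCoh.dim X.scheme ≤ WeilCoh.dim Y.scheme :=
  dim_le_of_forall X _ fun x => (pdim_le_of_isInducing f hf x).trans (pdim_le_dim Y _)

/-- closed immersions preserve `pdim` -/
theorem pdim_of_isClosedImmersion {X Y : BMCoh.Obj V} (f : X.scheme ⟶ Y.scheme)
    [IsClosedImmersion f] (x : X.scheme) :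
    WeilCoh.pdim Y.scheme (f x) = WeilCoh.pdim X.scheme x := by
  refine le_antisymm ?_ (pdim_le_of_isInducing f f.isClosedEmbedding.isEmbedding x)
  suffices H : ∀ (n : ℕ) (x : X.scheme), WeilCoh.pdim X.scheme x ≤ n →
      WeilCoh.pdim Y.scheme (f x) ≤ n from H _ x le_rfl
  intro n
  induction n using Nat.strong_induction_on with
  | _ n ih =>
    intro x hx
    by_contra hlt
    have h1 : ((n : ℕ) : ℕ∞) < Order.height (f x) := by
      rw [height_eq]
      exact_mod_cast not_le.1 hlt
    rw [lt_iff_not_ge, Order.height_le_coe_iff] at h1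
    push Not at h1
    obtain ⟨y, hy, hyn⟩ := h1
    have hys : f x ⤳ y := hy.le
    obtain ⟨z, rfl⟩ : y ∈ Set.range f :=
      hys.mem_closed f.isClosedEmbedding.isClosed_range ⟨x, rfl⟩
    have hzx : x ⤳ z := f.isClosedEmbedding.isInducing.specializes_iff.1 hys
    have hne : z ≠ x := fun e => hy.ne (congrArg _ e)
    have hp := pdim_lt X hzx hne
    have := ih (WeilCoh.pdim X.scheme z) (lt_of_lt_of_le hp hx) z le_rfl
    rw [height_eq, Nat.cast_le] at hyn
    omega

/-- a closed map does not increase `pdim` -/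
theorem pdim_apply_le_of_isClosedMap {X Y : BMCoh.Obj V} (f : X.scheme ⟶ Y.scheme)
    (hf : IsClosedMap f) (x : X.scheme) :
    WeilCoh.pdim Y.scheme (f x) ≤ WeilCoh.pdim X.scheme x := by
  suffices H : ∀ (n : ℕ) (x : X.scheme), WeilCoh.pdim X.scheme x ≤ n →
      WeilCoh.pdim Y.scheme (f x) ≤ n from H _ x le_rfl
  intro n
  induction n using Nat.strong_induction_on with
  | _ n ih =>
    intro x hx
    by_contra hlt
    have h1 : ((n : ℕ) : ℕ∞) < Order.height (f x) := by
      rw [height_eq]
      exact_mod_cast not_le.1 hlt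
    rw [lt_iff_not_ge, Order.height_le_coe_iff] at h1
    push Not at h1
    obtain ⟨y, hy, hyn⟩ := h1
    have hys : f x ⤳ y := hy.le
    obtain ⟨z, hz, rfl⟩ := hys.mem_closed (hf _ isClosed_closure)
      ⟨x, subset_closure (Set.mem_singleton x), rfl⟩
    have hzx : x ⤳ z := specializes_iff_mem_closure.2 hz
    have hne : z ≠ x := fun e => hy.ne (congrArg _ e)
    have hp := pdim_lt X hzx hne
    have := ih (WeilCoh.pdim X.scheme z) (lt_of_lt_of_le hp hx) z le_rfl
    rw [height_eq, Nat.cast_le] at hyn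
    omega

end Groth.Agent.BMCohLib
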