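import Groth.Agent.BMCohLib.Pieces
import Mathlib.CategoryTheory.Limits.Shapes.KernelPair

/-!
# Finite disjoint unions in a pre-theory
-/

set_option autoImplicit false
set_option linter.unusedSectionVars false

universe u

open AlgebraicGeometry CategoryTheory CategoryTheory.Limits Opposite TopologicalSpace

noncomputable section

namespace Groth.Agent.BMCohLib

variable {V : ObjectProperty Scheme.{u}} [BMCoh.IsConstructible V] {R : Type u} [CommRing R]
  {A : BMCoh.Coefs R} (T : BMCoh.PreTheory V R A) {M : A.Cat} {i n : ℤ}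

theorem relCodim_hom {P Z : BMCoh.Obj V} (g : P ⟶ Z) :
    BMCoh.relCodim P.scheme Z.scheme = 0 := by
  rw [BMCoh.relCodim, g.dim_eq, sub_self]

/-- an open immersion with closed range is a closed immersion -/
theorem isClosedImmersion_of_isClosed_range {P Z : Scheme.{u}} (g : P ⟶ Z) [IsOpenImmersion g]
    (h : IsClosed (Set.range g)) : IsClosedImmersion g :=
  .of_isPreimmersion g h

/-- push forward along a closed-open immersion of objects, in the same bidegree -/
abbrev cpush {P Z : BMCoh.Obj V} (g : P ⟶ Z) [IsProper g.hom] (M : A.Cat) (i n : ℤ) :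
    T.gp P M i n ⟶ T.gp Z M i n :=
  T.push g.hom M i n i n (by rw [relCodim_hom g]; ring) (by rw [relCodim_hom g]; ring)

theorem pull_cpush_self {P Z : BMCoh.Obj V} (g : P ⟶ Z) [IsProper g.hom] (b : T.gp P M i n) :
    (T.pull g M i n).hom ((cpush T g M i n).hom b) = b := by
  have hsq : IsPullback (𝟙 P : P ⟶ P).hom (𝟙 P.scheme) g.hom g.hom :=
    IsKernelPair.id_of_mono g.hom
  rw [push_pull_apply T g.hom (𝟙 P.scheme) g (𝟙 P) hsq _ _
    (by simp [BMCoh.relCodim]) (by simp [BMCoh.relCodim]), pull_id, T.push_id]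
  rfl

/-- the decomposition of an object by a closed-open piece and its complement -/
abbrev clopenDecomp {P Z : BMCoh.Obj V} (g : P ⟶ Z) [IsClosedImmersion g.hom]
    (O : Z.scheme.Opens) (hO : (O : Set Z.scheme) = (Set.range g.hom)ᶜ)
    (hd : WeilCoh.dim (O : Scheme.{u}) = WeilCoh.dim Z.scheme) : BMCoh.Decomp Z where
  Z := P
  U := Z.res O
  i := g.hom
  closedImm := inferInstance
  j := Z.resι O hd
  range_eq := by
    show Set.range O.ι = (Set.range g.hom)ᶜ
    rw [Scheme.Opens.range_ι]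
    exact hO

theorem dim_eq_of_range_subset {P Z : BMCoh.Obj V} (g : P ⟶ Z) (O : Z.scheme.Opens)
    (h : Set.range g.hom ⊆ O) : WeilCoh.dim (O : Scheme.{u}) = WeilCoh.dim Z.scheme := by
  refine le_antisymm (dim_res_le Z O) ?_
  rw [← g.dim_eq]
  exact dim_le_of_isEmbedding (Y := Z.res O)
    (IsOpenImmersion.lift O.ι g.hom (by rwa [Scheme.Opens.range_ι]))
    (IsOpenImmersion.lift O.ι g.hom (by rwa [Scheme.Opens.range_ι])).isOpenEmbedding.isEmbedding

/-- the factorisation of a morphism of objects through an open containing its image -/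
abbrev liftRes {P Z : BMCoh.Obj V} (g : P ⟶ Z) (O : Z.scheme.Opens)
    (h : Set.range g.hom ⊆ O) : P ⟶ Z.res O :=
  ⟨IsOpenImmersion.lift O.ι g.hom (by rwa [Scheme.Opens.range_ι]), inferInstance,
    g.dim_eq.trans (dim_eq_of_range_subset g O h).symm⟩

theorem liftRes_fac {P Z : BMCoh.Obj V} (g : P ⟶ Z) (O : Z.scheme.Opens)
    (h : Set.range g.hom ⊆ O) : (liftRes g O h).hom ≫ O.ι = g.hom :=
  IsOpenImmersion.lift_fac _ _ _

theorem range_liftRes {P Z : BMCoh.Obj V} (g : P ⟶ Z) (O : Z.scheme.Opens)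
    (h : Set.range g.hom ⊆ O) :
    Set.range (liftRes g O h).hom = O.ι ⁻¹' Set.range g.hom := by
  ext y
  constructor
  · rintro ⟨z, rfl⟩
    exact ⟨z, by rw [← Scheme.Hom.comp_apply, liftRes_fac]⟩
  · rintro ⟨z, hz⟩
    refine ⟨z, O.ι.isOpenEmbedding.injective ?_⟩
    rw [← Scheme.Hom.comp_apply, liftRes_fac]
    exact hz

theorem pull_cpush_of_disjoint {P P' Z : BMCoh.Obj V} (g : P ⟶ Z) [IsClosedImmersion g.hom]
    (g' : P' ⟶ Z) (h : Set.range g'.hom ⊆ (Set.range g.hom)ᶜ) (b : T.gp P M i n) :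
    (T.pull g' M i n).hom ((cpush T g M i n).hom b) = 0 := by
  let O : Z.scheme.Opens := ⟨(Set.range g.hom)ᶜ, g.hom.isClosedEmbedding.isClosed_range.isOpen_compl⟩
  let D := clopenDecomp g O rfl (dim_eq_of_range_subset g' O h)
  have h0 : (T.pull D.j M i n).hom ((cpush T g M i n).hom b) = 0 :=
    push_pull_open_eq_zero T D _ _ b
  rw [← pull_pull_eq T (liftRes g' O h) D.j g' (liftRes_fac g' O h)]
  exact (congrArg (T.pull (liftRes g' O h) M i n).hom h0).trans (map_zero _)

theorem eq_zero_of_forall_pull {α : Type*} (S : Finset α) (hS : S.Nonempty) {Z : BMCoh.Obj V}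
    (P : α → BMCoh.Obj V) (g : ∀ x, P x ⟶ Z)
    (hc : ∀ x ∈ S, IsClosed (Set.range (g x).hom))
    (hdisj : ∀ x ∈ S, ∀ y ∈ S, x ≠ y → Disjoint (Set.range (g x).hom) (Set.range (g y).hom))
    (hcov : ∀ z : Z.scheme, ∃ x ∈ S, z ∈ Set.range (g x).hom) (a : T.gp Z M i n)
    (ha : ∀ x ∈ S, (T.pull (g x) M i n).hom a = 0) : a = 0 := by
  classical
  suffices H : ∀ (O : Z.scheme.Opens) (hd : WeilCoh.dim (O : Scheme.{u}) = WeilCoh.dim Z.scheme),
      (O : Set Z.scheme) = ⋃ x ∈ S, Set.range (g x).hom →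
      (T.pull (Z.resι O hd) M i n).hom a = 0 by
    have hu : ((⊤ : Z.scheme.Opens) : Set Z.scheme) = ⋃ x ∈ S, Set.range (g x).hom := by
      rw [Opens.coe_top, eq_comm, Set.eq_univ_iff_forall]
      exact fun z => Set.mem_iUnion₂.2 <| by
        obtain ⟨x, hx, hz⟩ := hcov z
        exact ⟨x, hx, hz⟩
    have : IsIso (Z.resι ⊤ (BMCoh.dim_top Z.scheme)).hom :=
      inferInstanceAs (IsIso Z.scheme.topIso.hom)
    exact (pull_injective_of_isIso T (Z.resι ⊤ (BMCoh.dim_top Z.scheme))).1
      ((H ⊤ (BMCoh.dim_top Z.scheme) hu).trans (map_zero _).symm)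
  clear hcov
  induction hS using Finset.Nonempty.cons_induction with
  | singleton x =>
    intro O hd hO
    simp only [Finset.mem_singleton, Set.iUnion_iUnion_eq_left] at hO
    have hle : Set.range (g x).hom ⊆ O := hO.ge
    have : Surjective (liftRes (g x) O hle).hom := by
      constructor
      intro y
      show y ∈ Set.range (liftRes (g x) O hle).hom
      rw [range_liftRes]
      show O.ι y ∈ Set.range (g x).hom
      rw [← hO]
      exact y.2
    have : IsIso (liftRes (g x) O hle).hom :=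
      isIso_of_isOpenImmersion_of_opensRange_eq_top _
        (Opens.ext (Set.eq_univ_of_forall fun y => Surjective.surj y))
    refine (pull_injective_of_isIso T (liftRes (g x) O hle)).1 ?_
    rw [map_zero, pull_pull_eq T (liftRes (g x) O hle) (Z.resι O hd) (g x) (liftRes_fac (g x) O hle)]
    exact ha x (Finset.mem_singleton_self x)
  | cons x S' hx hS' ih =>
    intro O hd hO
    have hxO : Set.range (g x).hom ⊆ O := by
      rw [hO]
      exact Set.subset_biUnion_of_mem (u := fun y => Set.range (g y).hom)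
        (Finset.mem_cons_self x S')
    let O' : Z.scheme.Opens := ⟨⋃ y ∈ S', Set.range (g y).hom,
      isOpen_biUnion fun y _ => (g y).hom.isOpenEmbedding.isOpen_range⟩
    obtain ⟨y0, hy0⟩ := hS'
    have hy0O : Set.range (g y0).hom ⊆ O' :=
      Set.subset_biUnion_of_mem (u := fun y => Set.range (g y).hom) hy0
    have hd' : WeilCoh.dim (O' : Scheme.{u}) = WeilCoh.dim Z.scheme :=
      dim_eq_of_range_subset (g y0) O' hy0O
    have hO'O : O' ≤ O := by
      intro z hz
      rw [← SetLike.mem_coe, hO]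
      obtain ⟨y, hy, hz⟩ := Set.mem_iUnion₂.1 hz
      exact Set.mem_iUnion₂.2 ⟨y, Finset.mem_cons.2 (Or.inr hy), hz⟩
    have h1 : (T.pull (Z.resι O' hd') M i n).hom a = 0 :=
      ih (fun y hy => hc y (Finset.mem_cons.2 (Or.inr hy)))
        (fun y hy y' hy' => hdisj y (Finset.mem_cons.2 (Or.inr hy)) y'
          (Finset.mem_cons.2 (Or.inr hy')))
        (fun y hy => ha y (Finset.mem_cons.2 (Or.inr hy))) O' hd' rfl
    have : IsClosedImmersion (liftRes (g x) O hxO).hom :=
      isClosedImmersion_of_isClosed_range _ (by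
        rw [range_liftRes]
        exact (hc x (Finset.mem_cons_self x S')).preimage O.ι.continuous)
    let O'' : (Z.res O).scheme.Opens := O.ι ⁻¹ᵁ O'
    have hcompl : (O'' : Set (Z.res O).scheme) = (Set.range (liftRes (g x) O hxO).hom)ᶜ := by
      rw [range_liftRes]
      ext z
      show O.ι z ∈ O' ↔ ¬ O.ι z ∈ Set.range (g x).hom
      constructor
      · intro h hz
        obtain ⟨y, hy, hzy⟩ := Set.mem_iUnion₂.1 h
        exact Set.disjoint_left.1 (hdisj x (Finset.mem_cons_self x S') y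
          (Finset.mem_cons.2 (Or.inr hy)) (fun e => hx (e ▸ hy))) hz hzy
      · intro h
        have hz : O.ι z ∈ (O : Set Z.scheme) := z.2
        rw [hO] at hz
        obtain ⟨y, hy, hzy⟩ := Set.mem_iUnion₂.1 hz
        rcases Finset.mem_cons.1 hy with rfl | hy
        · exact absurd hzy h
        · exact Set.mem_iUnion₂.2 ⟨y, hy, hzy⟩
    have hd'' : WeilCoh.dim (O'' : Scheme.{u}) = WeilCoh.dim (O : Scheme.{u}) := by
      refine dim_eq_of_range_subset (Z := Z.res O) (liftRes (g y0) O (hy0O.trans hO'O)) O'' ?_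
      rw [range_liftRes]
      exact Set.preimage_mono hy0O
    let D := clopenDecomp (liftRes (g x) O hxO) O'' hcompl hd''
    let q : Z.res O' ⟶ (Z.res O).res O'' :=
      ⟨IsOpenImmersion.lift O''.ι (Z.scheme.homOfLE hO'O)
        (by rw [Scheme.Opens.range_ι, range_homOfLE_eq]; exact subset_rfl), inferInstance,
        hd'.trans (hd''.trans hd).symm⟩
    have hq : Surjective q.hom := by
      constructor
      intro z
      obtain ⟨w, hw⟩ : O''.ι z ∈ Set.range (Z.scheme.homOfLE hO'O) := by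
        rw [range_homOfLE_eq]
        exact z.2
      refine ⟨w, O''.ι.isOpenEmbedding.injective ?_⟩
      rw [← Scheme.Hom.comp_apply, IsOpenImmersion.lift_fac]
      exact hw
    have : IsIso q.hom := isIso_of_isOpenImmersion_of_opensRange_eq_top _
      (Opens.ext (Set.eq_univ_of_forall fun y => Surjective.surj y))
    have h2 : (T.pull D.j M i n).hom ((T.pull (Z.resι O hd) M i n).hom a) = 0 := by
      refine (pull_injective_of_isIso T q).1 ?_
      rw [map_zero, pull_pull_eq T q D.j (Z.resLE hO'O (hd'.trans hd.symm))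
        (IsOpenImmersion.lift_fac _ _ _), pull_pull_eq T (Z.resLE hO'O (hd'.trans hd.symm))
        (Z.resι O hd) (Z.resι O' hd') (Z.scheme.homOfLE_ι hO'O)]
      exact h1
    obtain ⟨b, hb⟩ := exists_push_eq T D (i := i) (n := n)
      (by rw [relCodim_hom (liftRes (g x) O hxO)]; ring)
      (by rw [relCodim_hom (liftRes (g x) O hxO)]; ring) _ h2
    have hb0 : b = 0 := by
      rw [← pull_cpush_self T (liftRes (g x) O hxO) b]
      refine (congrArg (T.pull (liftRes (g x) O hxO) M i n).hom hb).trans ?_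
      rw [pull_pull_eq T (liftRes (g x) O hxO) (Z.resι O hd) (g x) (liftRes_fac (g x) O hxO)]
      exact ha x (Finset.mem_cons_self x S')
    rw [← hb, hb0, map_zero]

theorem pull_sum_cpush {α : Type*} (S : Finset α) {Z : BMCoh.Obj V}
    (P : α → BMCoh.Obj V) (g : ∀ x, P x ⟶ Z) [∀ x, IsClosedImmersion (g x).hom]
    (hdisj : ∀ x ∈ S, ∀ y ∈ S, x ≠ y → Disjoint (Set.range (g x).hom) (Set.range (g y).hom))
    (w : ∀ x, T.gp (P x) M i n) {y : α} (hy : y ∈ S) :
    (T.pull (g y) M i n).hom (∑ x ∈ S, (cpush T (g x) M i n).hom (w x)) = w y := by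
  rw [map_sum, Finset.sum_eq_single_of_mem y hy]
  · exact pull_cpush_self T (g y) (w y)
  · intro x hx hxy
    exact pull_cpush_of_disjoint T (g x) (g y)
      (Set.disjoint_left.1 (hdisj y hy x hx (Ne.symm hxy))) (w x)

theorem eq_sum_cpush_pull {α : Type*} (S : Finset α) (hS : S.Nonempty) {Z : BMCoh.Obj V}
    (P : α → BMCoh.Obj V) (g : ∀ x, P x ⟶ Z) [∀ x, IsClosedImmersion (g x).hom]
    (hdisj : ∀ x ∈ S, ∀ y ∈ S, x ≠ y → Disjoint (Set.range (g x).hom) (Set.range (g y).hom))
    (hcov : ∀ z : Z.scheme, ∃ x ∈ S, z ∈ Set.range (g x).hom) (a : T.gp Z M i n) :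
    a = ∑ x ∈ S, (cpush T (g x) M i n).hom ((T.pull (g x) M i n).hom a) := by
  rw [← sub_eq_zero]
  refine eq_zero_of_forall_pull T S hS P g
    (fun x _ => (g x).hom.isClosedEmbedding.isClosed_range) hdisj hcov _ fun y hy => ?_
  rw [map_sub, pull_sum_cpush T S P g hdisj (fun x => (T.pull (g x) M i n).hom a) hy, sub_self]

end Groth.Agent.BMCohLib
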