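import Groth.Agent.BMCohLib.Sum

/-!
# The groups of `F_0` of a reduced object
-/

set_option autoImplicit false
set_option linter.unusedSectionVars false

universe u

open AlgebraicGeometry CategoryTheory CategoryTheory.Limits Opposite TopologicalSpace DirectSum

noncomputable section

namespace Groth.Agent.BMCohLib

variable {V : ObjectProperty Scheme.{u}} [BMCoh.IsConstructible V] {R : Type u} [CommRing R]
  {A : BMCoh.Coefs R} (T : BMCoh.PreTheory V R A) {M : A.Cat} {i n i' n' : ℤ}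

/-- the groups of an empty object vanish -/
theorem eq_zero_of_isEmpty {Z : BMCoh.Obj V} (h : IsEmpty Z.scheme) (a : T.gp Z M i n) : a = 0 := by
  let D : BMCoh.Decomp Z :=
    { Z := Z, U := Z, i := 𝟙 _, closedImm := inferInstance, j := 𝟙 Z
      range_eq := Set.ext fun z => isEmptyElim z }
  obtain ⟨k, rfl⟩ : ∃ k, i = k + 1 := ⟨i - 1, (sub_add_cancel _ _).symm⟩
  have hd : BMCoh.relCodim D.Z.scheme Z.scheme = 0 := sub_self _
  have hi : k + 1 = (k + 1) + 2 * BMCoh.relCodim D.Z.scheme Z.scheme := by rw [hd]; ring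
  have hn : n = n + BMCoh.relCodim D.Z.scheme Z.scheme := by rw [hd]; ring
  have h0 := push_pull_open_eq_zero T D (M := M) hi hn a
  have h1 : (T.push (𝟙 Z.scheme) M (k + 1) n (k + 1) n hi hn).hom a = a := by
    rw [T.push_id]; rfl
  rw [pull_id] at h0
  exact h1.symm.trans h0

variable (X : BMCoh.Obj V)

theorem exists_finset_all : ∃ S : Finset (X.cdPt 0), ∀ x, x ∈ S := by
  have h := (exists_isolating X (⊤ : Closeds X.scheme) (k := 0) fun _ _ => Nat.zero_le _).1
  have : (Set.univ : Set (X.cdPt 0)).Finite :=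
    (h.preimage Subtype.val_injective.injOn).subset fun x _ => ⟨trivial, x.2⟩
  exact ⟨this.toFinset, fun x => this.mem_toFinset.2 trivial⟩

/-- a smaller open containing `F_0` on which the closures of the generic points of maximal
dimension are disjoint and cover, inside given neighbourhoods of these points -/
theorem exists_split {S : Finset (X.cdPt 0)} (hS : ∀ x, x ∈ S) {W : X.scheme.Opens}
    (hW : BMCoh.ContainsFj X 0 W) (O0 : X.cdPt 0 → X.scheme.Opens)
    (h0 : ∀ x : X.cdPt 0, x.1 ∈ O0 x) :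
    ∃ V' : X.scheme.Opens, BMCoh.ContainsFj X 0 V' ∧ V' ≤ W ∧ Sep X S V' ∧
      (∀ z ∈ V', z ∈ ptsC X S) ∧
      ∀ x : X.cdPt 0, ∀ z ∈ V', z ∈ ptC X x.1 → z ∈ O0 x := by
  have hO : ∀ x : X.cdPt 0, ∃ O : X.scheme.Opens, x.1 ∈ O ∧ ∀ z ∈ O, z ∈ ptC X x.1 := fun x => by
    obtain ⟨O, hx, hO⟩ := (exists_isolating X (⊤ : Closeds X.scheme) (k := 0)
      fun _ _ => Nat.zero_le _).2 x.1 trivial x.2
    exact ⟨O, hx, fun z hz => hO z hz trivial⟩
  choose O hO1 hO2 using hO
  refine ⟨sepOpen X S (fun x => O x ⊓ W ⊓ O0 x), fun y hy => ?_, fun z hz => ?_,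
    fun x hx y hy z hz hzx hzy => eq_of_mem_sepOpen X hx hy hz hzx hzy, fun z hz => ?_,
    fun x z hz hzx => (mem_open_of_mem_sepOpen X (hS x) hz hzx).2⟩
  · exact self_mem_sepOpen X (x := ⟨y, le_antisymm hy (Nat.zero_le _)⟩) (hS _)
      ⟨⟨hO1 _, hW y hy⟩, h0 _⟩
  · obtain ⟨x, hx, hzx, -⟩ := (mem_sepOpen X).1 hz
    exact hzx.1.2
  · obtain ⟨x, hx, hzx, -⟩ := (mem_sepOpen X).1 hz
    exact ptC_le_ptsC X hx (hO2 x z hzx.1.1)

variable [IsReduced X.scheme]

/-- the piece of a generic point as a closed-open piece of a split open -/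
def splitHom {S : Finset (X.cdPt 0)} (hS : ∀ x, x ∈ S) {W : X.scheme.Opens}
    (hW : BMCoh.ContainsFj X 0 W) (hsep : Sep X S W) (hcov : ∀ z ∈ W, z ∈ ptsC X S)
    (x : X.cdPt 0) : (X.ptSub x.1).res (pc X (ptC X x.1) W) ⟶ X.res W :=
  ⟨pcι X (ptC X x.1) W, by
    classical
    refine isOpenImmersion_of_isClosedImmersion _ ?_
    have h : Set.range (pcι X (ptC X x.1) W) = (W.ι ⁻¹' (ptsC X (S.erase x) : Set X.scheme))ᶜ := by
      rw [range_pcι]
      ext z
      have hz : W.ι z ∈ W := z.2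
      constructor
      · intro h h'
        obtain ⟨y, hy, hzy⟩ := (mem_ptsC X).1 h'
        exact Finset.ne_of_mem_erase hy (hsep y (Finset.mem_of_mem_erase hy) x (hS x) _ hz hzy h)
      · intro h
        obtain ⟨y, hy, hzy⟩ := (mem_ptsC X).1 (hcov _ hz)
        by_cases hyx : y = x
        · exact hyx ▸ hzy
        · exact absurd ((mem_ptsC X).2 ⟨y, Finset.mem_erase.2 ⟨hyx, hy⟩, hzy⟩) h
    rw [h]
    exact ((ptsC X (S.erase x)).isClosed.preimage W.ι.continuous).isOpen_compl, by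
    have h1 := dim_pc X x.1 (hW x.1 x.2.le)
    have h2 := (codim_eq_iff X x.1 0).1 x.2
    have h3 := dim_eq_of_containsFj X hW
    show WeilCoh.dim ((pc X (ptC X x.1) W : (X.ptSub x.1).scheme.Opens) : Scheme.{u}) =
      WeilCoh.dim (W : Scheme.{u})
    omega⟩

instance {S : Finset (X.cdPt 0)} (hS : ∀ x, x ∈ S) {W : X.scheme.Opens}
    (hW : BMCoh.ContainsFj X 0 W) (hsep : Sep X S W) (hcov : ∀ z ∈ W, z ∈ ptsC X S)
    (x : X.cdPt 0) : IsClosedImmersion (splitHom X hS hW hsep hcov x).hom :=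
  inferInstanceAs (IsClosedImmersion (pcι X (ptC X x.1) W))

theorem disjoint_range_splitHom {S : Finset (X.cdPt 0)} (hS : ∀ x, x ∈ S) {W : X.scheme.Opens}
    (hW : BMCoh.ContainsFj X 0 W) (hsep : Sep X S W) (hcov : ∀ z ∈ W, z ∈ ptsC X S)
    {x y : X.cdPt 0} (hne : x ≠ y) :
    Disjoint (Set.range (splitHom X hS hW hsep hcov x).hom)
      (Set.range (splitHom X hS hW hsep hcov y).hom) := by
  show Disjoint (Set.range (pcι X (ptC X x.1) W)) (Set.range (pcι X (ptC X y.1) W))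
  rw [range_pcι, range_pcι, Set.disjoint_left]
  exact fun z hzx hzy => hne (hsep x (hS x) y (hS y) _ z.2 hzx hzy)

/-- a class on a split open is the sum of the push forwards of its restrictions to the pieces -/
theorem eq_sum_split {S : Finset (X.cdPt 0)} (hS : ∀ x, x ∈ S) {W : X.scheme.Opens}
    (hW : BMCoh.ContainsFj X 0 W) (hsep : Sep X S W) (hcov : ∀ z ∈ W, z ∈ ptsC X S)
    (a : T.gp (X.res W) M i n) :
    a = ∑ x ∈ S, (cpush T (splitHom X hS hW hsep hcov x) M i n).hom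
      ((T.pull (splitHom X hS hW hsep hcov x) M i n).hom a) := by
  rcases S.eq_empty_or_nonempty with hSe | hSne
  · have he : IsEmpty (W : Scheme.{u}) := ⟨fun z => by
      obtain ⟨x, hx, -⟩ := (mem_ptsC X).1 (hcov _ z.2)
      rw [hSe] at hx
      exact Finset.notMem_empty x hx⟩
    rw [eq_zero_of_isEmpty T (Z := X.res W) he a, Finset.sum_eq_zero]
    intro x hx
    rw [map_zero, map_zero]
  refine eq_sum_cpush_pull T S hSne (fun x : X.cdPt 0 => (X.ptSub x.1).res (pc X (ptC X x.1) W))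
    (fun x => splitHom X hS hW hsep hcov x)
    (fun x _ y _ hne => disjoint_range_splitHom X hS hW hsep hcov hne) (fun z => ?_) a
  obtain ⟨x, hx, hzx⟩ := (mem_ptsC X).1 (hcov _ z.2)
  refine ⟨x, hx, ?_⟩
  show z ∈ Set.range (pcι X (ptC X x.1) W)
  rw [range_pcι]
  exact hzx

/-- vanishing at the generic points of maximal dimension gives vanishing of `H(F_0 X)` -/
theorem fjGp_zero_eq_zero
    (h : ∀ x : X.scheme, WeilCoh.codim X.scheme x = 0 → IsZero (T.ptGp X x M i n))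
    (ξ : T.fjGp X 0 M i n) : ξ = 0 := by
  obtain ⟨S, hS⟩ := exists_finset_all X
  obtain ⟨U, a, rfl⟩ := oc_rep T i n M (idxDir_fj X 0) ξ
  obtain ⟨W, hW, hle, hsep, hcov, -⟩ := exists_split X hS U.2.1 (fun _ => ⊤) (fun _ => trivial)
  rw [← oc_ι_pull T (U := fIdx X 0 W hW) (U' := U) hle a]
  let a' := (T.pull (ilink (show fIdx X 0 W hW ≤ U from hle)) M i n).hom a
  show ((T.fjι X 0 i n (fIdx X 0 W hW)).app M).hom a' = 0
  rw [eq_sum_split T X hS hW hsep hcov a', map_sum]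
  exact Finset.sum_eq_zero fun x _ => fjι_pcPush_eq_zero T X (hW x.1 x.2.le) hW x.2
    (by simp) (by simp) _ (eq_zero_of_isZero (h x.1 x.2) _)

theorem pushTot_bijective_zero (P : T.PushData X 0) (hi : i' = i + 2 * ((0 : ℕ) : ℤ))
    (hn : n' = n + ((0 : ℕ) : ℤ)) : Function.Bijective (P.tot M i n i' n' hi hn).hom := by
  classical
  obtain ⟨S, hS⟩ := exists_finset_all X
  obtain rfl : i' = i := by simpa using hi
  obtain rfl : n' = n := by simpa using hn
  refine ⟨(injective_iff_map_eq_zero _).2 fun ξ hξ => ?_, fun ξ => ?_⟩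
  · obtain ⟨O, -, hO, b, hb⟩ := exists_common_rep T X S ξ (fun _ => ⊤) (fun _ => trivial)
    obtain ⟨W0, hW0, -, hsep, hcov, hO0⟩ :=
      exists_split X hS (W := ⊤) (fun _ _ => trivial) O hO
    have hp : ∀ x : X.cdPt 0, pIdx X x.1 W0 (hW0 x.1 x.2.le) ≤ pIdx X x.1 (O x) (hO x) :=
      fun x z hz => hO0 x _ hz (clι_mem X (ptC X x.1) z)
    have hsum : ((T.fjι X 0 i' n' (fIdx X 0 W0 hW0)).app M).hom
        (∑ x ∈ S, (cpush T (splitHom X hS hW0 hsep hcov x) M i' n').hom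
          ((T.pull (ilink (hp x)) M i' n').hom (b x))) = 0 := by
      rw [← hξ, sum_lof_apply T X (P.tot M i' n' i' n' hi hn) ξ S (fun x hx => absurd (hS x) hx),
        map_sum]
      refine Finset.sum_congr rfl fun x _ => ?_
      rw [P.tot_lof, ← hb x, ← oc_ι_pull T (hp x) (b x),
        pushData_cpt_ptι T X P x (hW0 x.1 x.2.le) hW0 hi hn]
      rfl
    obtain ⟨W, hle, hW⟩ := oc_eq_zero T (idxDir_fj X 0) (U := fIdx X 0 W0 hW0) _ hsum
    obtain ⟨W, hWj, hWd⟩ := W
    have hsep' : Sep X S W := fun x hx y hy z hz => hsep x hx y hy z (hle hz)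
    have hcov' : ∀ z ∈ W, z ∈ ptsC X S := fun z hz => hcov z (hle hz)
    refine DFinsupp.ext fun y => ?_
    let w : ∀ x : X.cdPt 0, T.gp ((X.ptSub x.1).res (pc X (ptC X x.1) W)) M i' n' := fun x =>
      (T.pull (ilink (show pIdx X x.1 W (hWj x.1 x.2.le) ≤ pIdx X x.1 W0 (hW0 x.1 x.2.le) from
        pc_mono X _ hle)) M i' n').hom ((T.pull (ilink (hp x)) M i' n').hom (b x))
    have h2 : ∑ x ∈ S, (cpush T (splitHom X hS hWj hsep' hcov' x) M i' n').hom (w x) = 0 := by
      rw [map_sum] at hW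
      refine Eq.trans (Finset.sum_congr rfl fun x _ => ?_) hW
      exact (pull_pcPush T X (hW0 x.1 x.2.le) (hWj x.1 x.2.le) hW0 hWj x.2 hle
        (by simp) (by simp) _).symm
    have h3 := pull_sum_cpush T S (fun x : X.cdPt 0 => (X.ptSub x.1).res (pc X (ptC X x.1) W))
      (fun x => splitHom X hS hWj hsep' hcov' x)
      (fun p _ q _ hne => disjoint_range_splitHom X hS hWj hsep' hcov' hne) w (hS y)
    rw [h2, map_zero] at h3
    show ξ y = 0
    rw [← hb y, ← oc_ι_pull T (hp y) (b y),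
      ← oc_ι_pull T (show pIdx X y.1 W (hWj y.1 y.2.le) ≤ pIdx X y.1 W0 (hW0 y.1 y.2.le) from
        pc_mono X _ hle)]
    exact (congrArg _ h3.symm).trans (map_zero _)
  · obtain ⟨U, a, rfl⟩ := oc_rep T i' n' M (idxDir_fj X 0) ξ
    obtain ⟨W, hW, hle, hsep, hcov, -⟩ := exists_split X hS U.2.1 (fun _ => ⊤) (fun _ => trivial)
    let a' := (T.pull (ilink (show fIdx X 0 W hW ≤ U from hle)) M i' n').hom a
    refine ⟨∑ x ∈ S, DirectSum.lof R (X.cdPt 0) (fun y : X.cdPt 0 => T.ptGp X y.1 M i' n') x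
      (((T.ptι X x.1 i' n' (pIdx X x.1 W (hW x.1 x.2.le))).app M).hom
        ((T.pull (splitHom X hS hW hsep hcov x) M i' n').hom a')), ?_⟩
    rw [map_sum, ← oc_ι_pull T (U := fIdx X 0 W hW) (U' := U) hle a]
    show _ = ((T.fjι X 0 i' n' (fIdx X 0 W hW)).app M).hom a'
    conv_rhs => rw [eq_sum_split T X hS hW hsep hcov a', map_sum]
    refine Finset.sum_congr rfl fun x _ => ?_
    exact (P.tot_lof M i' n' i' n' hi hn x _).trans
      (pushData_cpt_ptι T X P x (hW x.1 x.2.le) hW hi hn _)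

end Groth.Agent.BMCohLib
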