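import Groth.Agent.BMCohLib.Conseq
import Groth.Agent.EGA2Curve.RelNormal
import Groth.Agent.LocalImm.StalkIso
import Groth.Prelude.Def_Curv2

/-!
# The normalisation of the closure of a point in a pre-theory
-/

set_option autoImplicit false
set_option linter.unusedSectionVars false

universe u

open AlgebraicGeometry CategoryTheory CategoryTheory.Limits Opposite TopologicalSpace

noncomputable section

namespace Groth.Agent.BMCohLib

theorem isIso_stalkMap_of_generic {Y Z : Scheme.{u}} [IsIntegral Y] [IsIntegral Z] (f : Y ⟶ Z)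
    (hgen : f (genericPoint Y) = genericPoint Z)
    (h : Function.Surjective (f.residueFieldMap (genericPoint Y)).hom) :
    IsIso (f.stalkMap (genericPoint Y)) := by
  have hY : IsField (Y.presheaf.stalk (genericPoint Y)) := Field.toIsField Y.functionField
  have hZ : IsField (Z.presheaf.stalk (f (genericPoint Y))) := by
    rw [hgen]; exact Field.toIsField Z.functionField
  let _ := hZ.toField
  have hinjY : Function.Injective (Y.residue (genericPoint Y)).hom := by
    rw [RingHom.injective_iff_ker_eq_bot]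
    exact IsLocalRing.ker_residue.trans (IsLocalRing.isField_iff_maximalIdeal_eq.1 hY)
  rw [ConcreteCategory.isIso_iff_bijective]
  refine ⟨(f.stalkMap (genericPoint Y)).hom.injective, fun b => ?_⟩
  obtain ⟨c, hc⟩ := h ((Y.residue (genericPoint Y)).hom b)
  obtain ⟨a, rfl⟩ := Z.residue_surjective _ c
  refine ⟨a, hinjY ?_⟩
  rw [← hc]
  exact congr(($(Scheme.residue_residueFieldMap f (genericPoint Y))).hom a).symm

variable {V : ObjectProperty Scheme.{u}} [BMCoh.IsConstructible V]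

/-- the normalisation of the closure of `w` is an isomorphism over an open around `w` -/
theorem exists_isIso_normalization (X : BMCoh.Obj V) (w : X.scheme)
    [IsIntegral (X.ptSub w).scheme]
    [QuasiCompact ((X.ptSub w).scheme.fromSpecStalk (genericPoint (X.ptSub w).scheme))]
    [QuasiSeparated ((X.ptSub w).scheme.fromSpecStalk (genericPoint (X.ptSub w).scheme))]
    (Y : BMCoh.Obj V) [IsIntegral Y.scheme] (e : Y.scheme ≅ Curv2.normalization (X.ptSub w).scheme)
    (φ : Y.scheme ⟶ X.scheme) [IsProper φ]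
    (hφ : φ = e.hom ≫ Curv2.normalizationι (X.ptSub w).scheme ≫ X.ptSubι w)
    (hmap : φ (genericPoint Y.scheme) = w)
    (hdim : WeilCoh.pdim Y.scheme (genericPoint Y.scheme) = WeilCoh.pdim X.scheme w) :
    ∃ O : X.scheme.Opens, w ∈ O ∧
      IsIso ((Y.ptSubι (genericPoint Y.scheme) ≫ e.hom ≫
        Curv2.normalizationι (X.ptSub w).scheme) ∣_ pc X (ptC X w) O) := by
  let Z := (X.ptSub w).scheme
  let ν : Y.scheme ⟶ Z := e.hom ≫ Curv2.normalizationι Z
  have hν : ν ≫ X.ptSubι w = φ := by rw [hφ, Category.assoc]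
  have : IsNoetherian Z := BMCoh.IsConstructible.isNoetherian (X.ptSub w).mem
  have : IsProper (ν ≫ X.ptSubι w) := by rw [hν]; infer_instance
  have : IsProper ν := MorphismProperty.of_postcomp (W := @IsProper) (W' := @IsSeparated) ν
    (X.ptSubι w) inferInstance this
  have hN : LocallyOfFiniteType (Curv2.normalizationι Z) := by
    have : Curv2.normalizationι Z = e.inv ≫ ν := by simp [ν]
    rw [this]; infer_instance
  have hg : Z.fromSpecStalk (genericPoint Z) =
      Spec.map (CommRingCat.ofHom (RingHom.id Z.functionField)) ≫ Z.fromSpecStalk (genericPoint Z) := by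
    rw [CommRingCat.ofHom_id, Spec.map_id]
    exact (Category.id_comp _).symm
  have : IsIntegral (Curv2.normalization Z) :=
    inferInstanceAs (IsIntegral (Scheme.Hom.normalization (X := Spec (CommRingCat.of Z.functionField))
      (Z.fromSpecStalk (genericPoint Z))))
  have hiso : IsIso ((Curv2.normalizationι Z).stalkMap (genericPoint (Curv2.normalization Z))) :=
    isIso_stalkMap_of_generic (Curv2.normalizationι Z)
      (EGA2Curve.fromNormalization_genericPoint (K := Z.functionField) hg)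
      (EGA2Curve.residueFieldMap_bijective (K := Z.functionField) hg Function.surjective_id).2
  obtain ⟨U, hU, hUi⟩ := (LocalImm.isLocalIsoAt_iff_isIso_stalkMap
    (Curv2.normalizationι Z) (genericPoint (Curv2.normalization Z))).2 hiso
  let U' : Y.scheme.Opens := e.hom ⁻¹ᵁ U
  have hU' : IsOpenImmersion (U'.ι ≫ ν) := by
    rw [show U'.ι ≫ ν = (e.hom ∣_ U) ≫ U.ι ≫ Curv2.normalizationι Z by simp [U', ν]]
    infer_instance
  have hη : genericPoint Y.scheme ∈ U' := by
    have h : genericPoint (Curv2.normalization Z) ⤳ e.hom (genericPoint Y.scheme) :=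
      genericPoint_specializes _
    have hs : Surjective e.hom := inferInstance
    obtain ⟨z, hz⟩ := hs.1 (genericPoint (Curv2.normalization Z))
    show e.hom (genericPoint Y.scheme) ∈ U
    refine ((genericPoint_specializes z).map e.hom.continuous).mem_open U.isOpen ?_
    rw [hz]
    exact hU
  let A : Set Z := ν '' (U' : Set Y.scheme)ᶜ
  have hA : IsClosed A := ν.isClosedMap _ U'.isOpen.isClosed_compl
  let O1 : Z.Opens := (U'.ι ≫ ν).opensRange ⊓ ⟨Aᶜ, hA.isOpen_compl⟩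
  obtain ⟨O, hO, hO1⟩ := ((X.ptSubι w).isClosedEmbedding.isInducing.isOpen_iff).1 O1.isOpen
  have hgz : ν (genericPoint Y.scheme) ∈ O1 := by
    refine ⟨⟨⟨_, hη⟩, rfl⟩, ?_⟩
    rintro ⟨y, hy, hyv⟩
    have h1 : φ y = w := by
      rw [← hν, Scheme.Hom.comp_apply, hyv, ← Scheme.Hom.comp_apply, hν, hmap]
    have h2 := pdim_apply_le_of_isClosedMap φ φ.isClosedMap y
    have h3 := pdim_lt Y (genericPoint_specializes y) fun e' => hy (e' ▸ hη)
    rw [h1] at h2
    omega
  refine ⟨⟨O, hO⟩, ?_, ?_⟩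
  · rw [← SetLike.mem_coe, ← hO1] at hgz
    show w ∈ O
    rw [← hmap, ← hν]
    exact hgz
  have hpc : pc X (ptC X w) ⟨O, hO⟩ = O1 := Opens.ext hO1
  have h1 : IsIso (ν ∣_ O1) := by
    have hle : ν ⁻¹ᵁ O1 ≤ U' := fun y hy => by_contra fun hn => hy.2 ⟨y, hn, rfl⟩
    have : IsOpenImmersion ((ν ∣_ O1) ≫ O1.ι) := by
      rw [morphismRestrict_ι, ← Y.scheme.homOfLE_ι hle, Category.assoc]
      infer_instance
    have : IsOpenImmersion (ν ∣_ O1) := IsOpenImmersion.of_comp _ O1.ι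
    refine isIso_of_isOpenImmersion_of_opensRange_eq_top _
      (Opens.ext (Set.eq_univ_of_forall fun z => ?_))
    obtain ⟨u, hu⟩ := z.2.1
    refine ⟨⟨U'.ι u, show ν (U'.ι u) ∈ O1 from ?_⟩, O1.ι.isOpenEmbedding.injective ?_⟩
    · rw [← Scheme.Hom.comp_apply, hu]; exact z.2
    · rw [← Scheme.Hom.comp_apply, morphismRestrict_ι]; exact hu
  rw [hpc]
  have : IsIso (Y.ptSubι (genericPoint Y.scheme)) := by
    have : Surjective (Y.ptSubι (genericPoint Y.scheme)) := ⟨fun y =>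
      exists_clι_eq Y (ptC Y (genericPoint Y.scheme))
        (specializes_iff_mem_closure.1 (genericPoint_specializes y))⟩
    exact isIso_of_isClosedImmersion_of_surjective (Y.ptSubι (genericPoint Y.scheme))
  show IsIso ((Y.ptSubι (genericPoint Y.scheme) ≫ ν) ∣_ O1)
  rw [morphismRestrict_comp]
  have : IsIso (Y.ptSubι (genericPoint Y.scheme) ∣_ ν ⁻¹ᵁ O1) :=
    MorphismProperty.of_isPullback (P := MorphismProperty.isomorphisms Scheme)
      (isPullback_morphismRestrict (Y.ptSubι (genericPoint Y.scheme)) (ν ⁻¹ᵁ O1)).flip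
      (MorphismProperty.isomorphisms.infer_property _)
  exact @IsIso.comp_isIso _ _ _ _ _ _ _ this h1

variable {R : Type u} [CommRing R] {A : BMCoh.Coefs R} (T : BMCoh.PreTheory V R A)
  {M : A.Cat} {i n i' n' : ℤ}

theorem push_bijective_of_isIso {P Q : BMCoh.Obj V} (f : P.scheme ⟶ Q.scheme) [IsIso f] [IsProper f]
    (hi : i' = i + 2 * BMCoh.relCodim P.scheme Q.scheme)
    (hn : n' = n + BMCoh.relCodim P.scheme Q.scheme) :
    Function.Bijective (T.push f M i n i' n' hi hn).hom := by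
  have hd : WeilCoh.dim P.scheme = WeilCoh.dim Q.scheme := BMCoh.dim_eq_of_iso (asIso f)
  have h0 : BMCoh.relCodim P.scheme Q.scheme = 0 := by rw [BMCoh.relCodim, hd, sub_self]
  have h0' : BMCoh.relCodim Q.scheme P.scheme = 0 := by rw [BMCoh.relCodim, hd, sub_self]
  have h00 : ∀ (Z : BMCoh.Obj V), BMCoh.relCodim Z.scheme Z.scheme = 0 := fun Z => sub_self _
  obtain rfl : i' = i := by rw [hi, h0]; ring
  obtain rfl : n' = n := by rw [hn, h0]; ring
  have e1 : i' = i' + 2 * BMCoh.relCodim Q.scheme P.scheme := by rw [h0']; ring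
  have e2 : n' = n' + BMCoh.relCodim Q.scheme P.scheme := by rw [h0']; ring
  refine Function.bijective_iff_has_inverse.2
    ⟨(T.push (X := Q) (Y := P) (inv f) M i' n' i' n' e1 e2).hom, fun a => ?_, fun a => ?_⟩
  · refine (congr($(T.push_comp f (inv f) M i' n' i' n' i' n' hi hn e1 e2
      (by rw [h00]; ring) (by rw [h00]; ring)) a)).trans ?_
    rw [push_congr T (IsIso.hom_inv_id f), T.push_id]
    rfl
  · refine (congr($(T.push_comp (X := Q) (Y := P) (Z := Q) (inv f) f M i' n' i' n' i' n' e1 e2 hi hn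
      (by rw [h00]; ring) (by rw [h00]; ring)) a)).trans ?_
    rw [push_congr T (IsIso.inv_hom_id f), T.push_id]
    rfl

/-- a push forward of points along a morphism that is an isomorphism near the point is bijective -/
theorem ptPush_bijective {Y X : BMCoh.Obj V} {φ : Y.scheme ⟶ X.scheme} {y : Y.scheme} {x : X.scheme}
    (L : T.PtPush φ y x) (ψ : (Y.ptSub y).scheme ⟶ (X.ptSub x).scheme)
    (hψ : ψ ≫ X.ptSubι x = Y.ptSubι y ≫ φ) {O0 : X.scheme.Opens} (hx0 : x ∈ O0)
    (hiso : IsIso (ψ ∣_ pc X (ptC X x) O0)) : Function.Bijective (L.cpt M i n).hom := by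
  have hdim : WeilCoh.pdim X.scheme x = WeilCoh.pdim Y.scheme y := by
    have h := L.codim_eq
    rw [BMCoh.relCodim, dim_ptSub, dim_ptSub] at h
    omega
  have hpre : ∀ O : X.scheme.Opens, ψ ⁻¹ᵁ pc X (ptC X x) O = pc Y (ptC Y y) (φ ⁻¹ᵁ O) := fun O => by
    ext z
    show X.ptSubι x (ψ z) ∈ O ↔ φ (Y.ptSubι y z) ∈ O
    rw [← Scheme.Hom.comp_apply, hψ]
    rfl
  have hy : ∀ {O : X.scheme.Opens}, x ∈ O → y ∈ φ ⁻¹ᵁ O := fun hO =>
    show φ y ∈ _ from L.maps_pt ▸ hO
  -- the condition through the pieces over an open inside `O0`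
  have key : ∀ (O : X.scheme.Opens) (hx : x ∈ O), O ≤ O0 →
      ∃ (f : ((Y.ptSub y).res (pIdx Y y (φ ⁻¹ᵁ O) (hy hx)).1).scheme ⟶
          ((X.ptSub x).res (pIdx X x O hx).1).scheme) (_ : IsIso f) (_ : IsProper f)
        (e1 : i = i + 2 * BMCoh.relCodim ((Y.ptSub y).res (pIdx Y y (φ ⁻¹ᵁ O) (hy hx)).1).scheme
          ((X.ptSub x).res (pIdx X x O hx).1).scheme)
        (e2 : n = n + BMCoh.relCodim ((Y.ptSub y).res (pIdx Y y (φ ⁻¹ᵁ O) (hy hx)).1).scheme
          ((X.ptSub x).res (pIdx X x O hx).1).scheme),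
        f ≫ (pIdx X x O hx).1.ι ≫ X.ptSubι x =
            (pIdx Y y (φ ⁻¹ᵁ O) (hy hx)).1.ι ≫ Y.ptSubι y ≫ φ ∧
        ∀ b, (L.cpt M i n).hom (((T.ptι Y y i n (pIdx Y y (φ ⁻¹ᵁ O) (hy hx))).app M).hom b) =
          ((T.ptι X x i n (pIdx X x O hx)).app M).hom ((T.push f M i n i n e1 e2).hom b) := by
    intro O hx hle
    have : IsIso (ψ ∣_ pc X (ptC X x) O) :=
      MorphismProperty.of_isPullback (P := MorphismProperty.isomorphisms Scheme)
        (isPullback_morphismRestrict_homOfLE ψ (pc_mono X (ptC X x) hle)) hiso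
    let f : ((Y.ptSub y).res (pIdx Y y (φ ⁻¹ᵁ O) (hy hx)).1).scheme ⟶
        ((X.ptSub x).res (pIdx X x O hx).1).scheme :=
      ((Y.ptSub y).scheme.isoOfEq (hpre O).symm).hom ≫ ψ ∣_ pc X (ptC X x) O
    have : IsIso f := inferInstanceAs
      (IsIso (((Y.ptSub y).scheme.isoOfEq (hpre O).symm).hom ≫ ψ ∣_ pc X (ptC X x) O))
    have hrel : BMCoh.relCodim ((Y.ptSub y).res (pIdx Y y (φ ⁻¹ᵁ O) (hy hx)).1).scheme
        ((X.ptSub x).res (pIdx X x O hx).1).scheme = 0 := by
      show BMCoh.relCodim ((pc Y (ptC Y y) (φ ⁻¹ᵁ O) : (Y.ptSub y).scheme.Opens) : Scheme.{u})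
        ((pc X (ptC X x) O : (X.ptSub x).scheme.Opens) : Scheme.{u}) = 0
      rw [BMCoh.relCodim, dim_pc Y y (hy hx), dim_pc X x hx, hdim, sub_self]
    have hcond : f ≫ (pIdx X x O hx).1.ι ≫ X.ptSubι x =
        (pIdx Y y (φ ⁻¹ᵁ O) (hy hx)).1.ι ≫ Y.ptSubι y ≫ φ := by
      simp only [f, Category.assoc, morphismRestrict_ι_assoc, Scheme.isoOfEq_hom_ι_assoc, hψ]
    refine ⟨f, inferInstance, inferInstance, by rw [hrel]; ring, by rw [hrel]; ring, hcond,
      fun b => ?_⟩
    exact congr($(L.cpt_spec M i n (pIdx Y y (φ ⁻¹ᵁ O) (hy hx)) (pIdx X x O hx) f hcond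
      (by rw [hrel]; ring) (by rw [hrel]; ring)) b)
  refine ⟨(injective_iff_map_eq_zero _).2 fun ξ hξ => ?_, fun ζ => ?_⟩
  · obtain ⟨W, a, rfl⟩ := oc_rep T i n M (idxDir_pt Y y) ξ
    obtain ⟨Oy, hyO, rfl⟩ := exists_pIdx_eq Y y W
    -- shrink away from the image of the complement of the piece
    let C : Closeds Y.scheme := ⟨closure {y} \ (Oy : Set Y.scheme),
      isClosed_closure.sdiff Oy.isOpen⟩
    obtain ⟨g, hg, hgz⟩ := exists_ptPt Y y
    obtain ⟨hi0⟩ : Nonempty (Function.Injective (ψ ∣_ pc X (ptC X x) O0)) :=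
      ⟨(ψ ∣_ pc X (ptC X x) O0).isOpenEmbedding.injective⟩
    let B : Set (pc X (ptC X x) O0 : Scheme.{u}) := (ψ ∣_ pc X (ptC X x) O0) ''
      ((ψ ⁻¹ᵁ pc X (ptC X x) O0).ι ⁻¹' (Y.ptSubι y ⁻¹' (C : Set Y.scheme)))
    have hB : IsClosed B := (ψ ∣_ pc X (ptC X x) O0).isClosedEmbedding.isClosedMap _
      ((C.isClosed.preimage (Y.ptSubι y).continuous).preimage
        (ψ ⁻¹ᵁ pc X (ptC X x) O0).ι.continuous)
    obtain ⟨O', hO', hO'e⟩ := ((X.ptSubι x).isClosedEmbedding.isInducing.isOpen_iff).1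
      ((pc X (ptC X x) O0).ι.isOpenEmbedding.isOpenMap _ hB.isOpen_compl)
    let O : X.scheme.Opens := ⟨O', hO'⟩ ⊓ O0
    have hψg : X.ptSubι x (ψ g) = x := by
      rw [← Scheme.Hom.comp_apply, hψ, Scheme.Hom.comp_apply, hg, L.maps_pt]
    have hmem : ψ g ∈ pc X (ptC X x) O0 := show X.ptSubι x (ψ g) ∈ O0 from hψg.symm ▸ hx0
    have hxO : x ∈ O := by
      refine ⟨?_, hx0⟩
      have h2 : ψ g ∈ (X.ptSubι x) ⁻¹' O' := by
        rw [hO'e]
        refine ⟨⟨ψ g, hmem⟩, fun h => ?_, rfl⟩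
        obtain ⟨z, hz, hzg⟩ := h
        have e : z = ⟨g, hmem⟩ := hi0 (hzg.trans ((pc X (ptC X x) O0).ι.isOpenEmbedding.injective
          (by rw [← Scheme.Hom.comp_apply (ψ ∣_ _), morphismRestrict_ι]; rfl)))
        subst e
        exact hz.2 (show Y.ptSubι y g ∈ Oy from hg.symm ▸ hyO)
      exact hψg ▸ h2
    have hsub : pc Y (ptC Y y) (φ ⁻¹ᵁ O) ≤ pc Y (ptC Y y) Oy := by
      intro z hz
      rw [← hpre] at hz
      by_contra hzO
      have hzi : ψ z ∈ (pc X (ptC X x) O0).ι '' Bᶜ := by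
        rw [← hO'e]; exact hz.1
      obtain ⟨v, hv, hvz⟩ := hzi
      refine hv ⟨⟨z, hz.2⟩, ⟨clι_mem Y (ptC Y y) z, hzO⟩,
        (pc X (ptC X x) O0).ι.isOpenEmbedding.injective ?_⟩
      rw [hvz, ← Scheme.Hom.comp_apply, morphismRestrict_ι]
      rfl
    obtain ⟨f, _, _, e1, e2, hcond, hf⟩ := key O hxO inf_le_right
    have hle : pIdx Y y (φ ⁻¹ᵁ O) (hy hxO) ≤ pIdx Y y Oy hyO := hsub
    rw [← oc_ι_pull T hle a, hf] at hξ
    obtain ⟨O2, hx2, h2, hO2, hz⟩ := exists_shrink T X hxO _ hξ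
    obtain ⟨f', _, _, e1', e2', hcond', hf'⟩ := key O2 hx2 (hO2.trans inf_le_right)
    have hle2 : pIdx Y y (φ ⁻¹ᵁ O2) (hy hx2) ≤ pIdx Y y (φ ⁻¹ᵁ O) (hy hxO) :=
      pc_mono Y _ fun z hz => hO2 hz
    rw [← oc_ι_pull T hle a, ← oc_ι_pull T hle2]
    have hsq : CommSq (ilink hle2).hom f' f (ilink h2).hom := by
      constructor
      rw [← cancel_mono ((pIdx X x O hxO).1.ι ≫ X.ptSubι x), Category.assoc, Category.assoc, hcond]
      show (Y.ptSub y).scheme.homOfLE hle2 ≫ Scheme.Opens.ι _ ≫ _ =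
        f' ≫ (X.ptSub x).scheme.homOfLE h2 ≫ Scheme.Opens.ι _ ≫ _
      rw [Scheme.homOfLE_ι_assoc, Scheme.homOfLE_ι_assoc]
      exact hcond'.symm
    have hc : (T.push f' M i n i n e1' e2').hom
        ((T.pull (ilink hle2) M i n).hom ((T.pull (ilink hle) M i n).hom a)) = 0 :=
      (push_pull_apply T f f' (ilink h2) (ilink hle2) (IsPullback.of_vert_isIso hsq)
        e1 e2 e1' e2' _).symm.trans hz
    rw [(push_bijective_of_isIso T f' e1' e2').1 (hc.trans (map_zero _).symm), map_zero]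
  · obtain ⟨O, hO, hxO, b, rfl⟩ := exists_rep_closed T X (rfl : WeilCoh.codim X.scheme x = _) ζ
    obtain ⟨f, _, _, e1, e2, -, hf⟩ := key (O ⊓ O0) ⟨hxO, hx0⟩ inf_le_right
    have hle : pIdx X x (O ⊓ O0) ⟨hxO, hx0⟩ ≤ pIdx X x O hxO := pc_mono X _ inf_le_left
    obtain ⟨c, hc⟩ := (push_bijective_of_isIso T f e1 e2).2 ((T.pull (ilink hle) M i n).hom b)
    exact ⟨_, (hf c).trans (by rw [hc, oc_ι_pull])⟩

end Groth.Agent.BMCohLib
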