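import Groth.Agent.BMCohLib.Colim
import Mathlib.AlgebraicGeometry.Morphisms.Proper
import Mathlib.AlgebraicGeometry.Morphisms.ClosedImmersion

/-!
# Pieces of reduced closed subschemes inside opens of an object
-/

set_option autoImplicit false
set_option linter.unusedSectionVars false

universe u

open AlgebraicGeometry CategoryTheory CategoryTheory.Limits Opposite TopologicalSpace

noncomputable section

namespace Groth.Agent.BMCohLib

open FpqcDescent

variable {V : ObjectProperty Scheme.{u}} [BMCoh.IsConstructible V]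

/-- a closed subset of an object with its reduced structure, as an object -/
abbrev clSub (X : BMCoh.Obj V) (F : Closeds X.scheme) : BMCoh.Obj V :=
  ⟨(Scheme.IdealSheafData.vanishingIdeal F).subscheme,
    BMCoh.IsConstructible.of_isClosedImmersion (Scheme.IdealSheafData.vanishingIdeal F).subschemeι
      (h := (inferInstance : IsClosedImmersion (Scheme.IdealSheafData.vanishingIdeal F).subschemeι))
      X.mem⟩

/-- the closed immersion of `clSub` -/
abbrev clι (X : BMCoh.Obj V) (F : Closeds X.scheme) : (clSub X F).scheme ⟶ X.scheme :=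
  (Scheme.IdealSheafData.vanishingIdeal F).subschemeι

/-- the closure of a point as a closed set -/
abbrev ptC (X : BMCoh.Obj V) (x : X.scheme) : Closeds X.scheme :=
  ⟨closure {x}, isClosed_closure⟩

theorem range_clι (X : BMCoh.Obj V) (F : Closeds X.scheme) : Set.range (clι X F) = F := by
  rw [Scheme.IdealSheafData.range_subschemeι, Scheme.IdealSheafData.coe_support_vanishingIdeal]

theorem exists_clι_eq (X : BMCoh.Obj V) (F : Closeds X.scheme) {x : X.scheme} (hx : x ∈ F) :
    ∃ z, clι X F z = x := by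
  rw [← SetLike.mem_coe, ← range_clι X F] at hx
  exact hx

theorem clι_mem (X : BMCoh.Obj V) (F : Closeds X.scheme) (z : (clSub X F).scheme) :
    clι X F z ∈ F := by
  rw [← SetLike.mem_coe, ← range_clι X F]
  exact ⟨z, rfl⟩

/-- the trace of `clSub X F` on an open of `X` -/
abbrev pc (X : BMCoh.Obj V) (F : Closeds X.scheme) (O : X.scheme.Opens) :
    (clSub X F).scheme.Opens :=
  (clι X F) ⁻¹ᵁ O

/-- the closed immersion of a piece into the open -/
abbrev pcι (X : BMCoh.Obj V) (F : Closeds X.scheme) (O : X.scheme.Opens) :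
    ((clSub X F).res (pc X F O)).scheme ⟶ (X.res O).scheme :=
  (clι X F) ∣_ O

instance (X : BMCoh.Obj V) (F : Closeds X.scheme) (O : X.scheme.Opens) :
    IsClosedImmersion (pcι X F O) := inferInstanceAs (IsClosedImmersion ((clι X F) ∣_ O))

theorem pc_mono (X : BMCoh.Obj V) (F : Closeds X.scheme) {O O' : X.scheme.Opens} (h : O ≤ O') :
    pc X F O ≤ pc X F O' :=
  fun _ hz => h hz

theorem pcι_ι (X : BMCoh.Obj V) (F : Closeds X.scheme) (O : X.scheme.Opens) :
    pcι X F O ≫ O.ι = (pc X F O).ι ≫ clι X F :=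
  morphismRestrict_ι _ _

theorem range_pcι (X : BMCoh.Obj V) (F : Closeds X.scheme) (O : X.scheme.Opens) :
    Set.range (pcι X F O) = O.ι ⁻¹' (F : Set X.scheme) := by
  ext y
  constructor
  · rintro ⟨z, rfl⟩
    show O.ι (pcι X F O z) ∈ F
    rw [← Scheme.Hom.comp_apply, pcι_ι]
    exact clι_mem X F _
  · intro hy
    obtain ⟨z, hz⟩ := exists_clι_eq X F (hy : O.ι y ∈ F)
    have hzO : z ∈ pc X F O := by
      show clι X F z ∈ O
      rw [hz]
      exact y.2
    refine ⟨⟨z, hzO⟩, O.ι.isOpenEmbedding.injective ?_⟩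
    rw [← Scheme.Hom.comp_apply, pcι_ι]
    exact hz

theorem range_homOfLE_eq {X : Scheme.{u}} {U U' : X.Opens} (h : U ≤ U') :
    Set.range (X.homOfLE h) = U'.ι ⁻¹' (U : Set X) :=
  congrArg SetLike.coe (Scheme.opensRange_homOfLE h)

/-- base change of a restricted morphism to a smaller open -/
theorem isPullback_morphismRestrict_homOfLE {X Y : Scheme.{u}} (f : X ⟶ Y) {U U' : Y.Opens}
    (h : U ≤ U') :
    IsPullback (X.homOfLE (show f ⁻¹ᵁ U ≤ f ⁻¹ᵁ U' from fun _ hz => h hz)) (f ∣_ U) (f ∣_ U')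
      (Y.homOfLE h) := by
  refine IsPullback.of_right ?_ ?_ (isPullback_morphismRestrict f U').flip
  · rw [Scheme.homOfLE_ι, Scheme.homOfLE_ι]
    exact (isPullback_morphismRestrict f U).flip
  · rw [← cancel_mono U'.ι]
    simp

theorem isPullback_pcι (X : BMCoh.Obj V) (F : Closeds X.scheme) {O O' : X.scheme.Opens}
    (h : O ≤ O') :
    IsPullback ((clSub X F).scheme.homOfLE (pc_mono X F h)) (pcι X F O) (pcι X F O')
      (X.scheme.homOfLE h) :=
  isPullback_morphismRestrict_homOfLE (clι X F) h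

/-- the cut of an open by a closed set, as a decomposition -/
abbrev cut (X : BMCoh.Obj V) (F : Closeds X.scheme) {O0 O : X.scheme.Opens} (h : O0 ≤ O)
    (hd : WeilCoh.dim (O0 : Scheme.{u}) = WeilCoh.dim (O : Scheme.{u}))
    (he : (O0 : Set X.scheme) = (O : Set X.scheme) \ F) : BMCoh.Decomp (X.res O) where
  Z := (clSub X F).res (pc X F O)
  U := X.res O0
  i := pcι X F O
  closedImm := inferInstance
  j := X.resLE h hd
  range_eq := by
    show Set.range (X.scheme.homOfLE h) = (Set.range (pcι X F O))ᶜ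
    rw [range_homOfLE_eq, range_pcι]
    ext y
    have hy : O.ι y ∈ O := y.2
    show O.ι y ∈ (O0 : Set X.scheme) ↔ ¬ O.ι y ∈ (F : Set X.scheme)
    rw [he]
    exact ⟨fun hh => hh.2, fun hh => ⟨hy, hh⟩⟩

section points

variable (X : BMCoh.Obj V)

theorem exists_ptPt (x : X.scheme) :
    ∃ g : (X.ptSub x).scheme, X.ptSubι x g = x ∧ ∀ z, g ⤳ z := by
  obtain ⟨g, hg⟩ := exists_clι_eq X (ptC X x) (subset_closure (Set.mem_singleton x))
  refine ⟨g, hg, fun z => ?_⟩
  refine ((clι X (ptC X x)).isClosedEmbedding.isInducing.specializes_iff).1 ?_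
  rw [hg, specializes_iff_mem_closure]
  exact clι_mem X (ptC X x) z

theorem irreducibleSpace_ptSub (x : X.scheme) : IrreducibleSpace (X.ptSub x).scheme := by
  obtain ⟨g, -, hg⟩ := exists_ptPt X x
  have h : (Set.univ : Set (X.ptSub x).scheme) = closure {g} :=
    (Set.eq_univ_of_forall fun z => specializes_iff_mem_closure.1 (hg z)).symm
  rw [irreducibleSpace_def, Set.top_eq_univ, h]
  exact isIrreducible_singleton.closure

theorem dim_ptSub (x : X.scheme) :
    WeilCoh.dim (X.ptSub x).scheme = WeilCoh.pdim X.scheme x := by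
  obtain ⟨g, hg, hgz⟩ := exists_ptPt X x
  have hp : WeilCoh.pdim X.scheme x = WeilCoh.pdim (X.ptSub x).scheme g :=
    (congrArg (WeilCoh.pdim X.scheme) hg).symm.trans
      (pdim_of_isClosedImmersion (X := X.ptSub x) (Y := X) (X.ptSubι x) g)
  rw [hp]
  exact le_antisymm (dim_le_of_forall _ _ fun z => pdim_mono _ (hgz z)) (pdim_le_dim _ g)

theorem pc_nonempty (x : X.scheme) {O : X.scheme.Opens} (hx : x ∈ O) :
    ((pc X (ptC X x) O : (X.ptSub x).scheme.Opens) : Set (X.ptSub x).scheme).Nonempty := by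
  obtain ⟨g, hg, -⟩ := exists_ptPt X x
  exact ⟨g, show X.ptSubι x g ∈ O by rwa [hg]⟩

theorem dim_pc (x : X.scheme) {O : X.scheme.Opens} (hx : x ∈ O) :
    WeilCoh.dim ((pc X (ptC X x) O : (X.ptSub x).scheme.Opens) : Scheme.{u}) =
      WeilCoh.pdim X.scheme x := by
  rw [BMCoh.IsConstructible.dim_open (X.ptSub x).mem (irreducibleSpace_ptSub X x) _
    (pc_nonempty X x hx), dim_ptSub]

/-- the piece of the closure of `x` in an open around `x`, as an index of `ptGp` -/
abbrev pIdx (x : X.scheme) (O : X.scheme.Opens) (hx : x ∈ O) : BMCoh.ptIdx X x :=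
  ⟨pc X (ptC X x) O, pc_nonempty X x hx, by rw [dim_pc X x hx, dim_ptSub]⟩

theorem exists_pIdx_eq (x : X.scheme) (W : BMCoh.ptIdx X x) :
    ∃ (O : X.scheme.Opens) (hx : x ∈ O), pIdx X x O hx = W := by
  obtain ⟨g, hg, hgz⟩ := exists_ptPt X x
  obtain ⟨O, hO, hW⟩ := ((X.ptSubι x).isClosedEmbedding.isInducing.isOpen_iff).1 W.1.isOpen
  obtain ⟨z, hz⟩ := W.2.1
  have hgW : g ∈ W.1 := (hgz z).mem_open W.1.isOpen hz
  refine ⟨⟨O, hO⟩, ?_, Subtype.ext (Opens.ext hW)⟩
  rw [← SetLike.mem_coe, ← hW] at hgW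
  rw [← hg]
  exact hgW

theorem idxDir_pt (x : X.scheme) :
    IdxDir (X.ptSub x) (fun U => (U : Set (X.ptSub x).scheme).Nonempty) := by
  refine ⟨⟨pIdx X x ⊤ trivial⟩, fun U U' => ?_⟩
  obtain ⟨O, hx, rfl⟩ := exists_pIdx_eq X x U
  obtain ⟨O', hx', rfl⟩ := exists_pIdx_eq X x U'
  exact ⟨pIdx X x (O ⊓ O') ⟨hx, hx'⟩, pc_mono X _ inf_le_left, pc_mono X _ inf_le_right⟩

theorem pdim_le_pdim_res (U : X.scheme.Opens) (y : (X.res U).scheme) :
    WeilCoh.pdim X.scheme (U.ι y) ≤ WeilCoh.pdim (X.res U).scheme y := by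
  have hy : U.ι y ∈ U := y.2
  rw [← dim_pc X (U.ι y) hy]
  refine dim_le_of_forall ((clSub X (ptC X (U.ι y))).res (pc X (ptC X (U.ι y)) U)) _ fun p => ?_
  have h1 := pdim_le_of_isInducing
    (X := (clSub X (ptC X (U.ι y))).res (pc X (ptC X (U.ι y)) U)) (Y := X.res U)
    (pcι X (ptC X (U.ι y)) U) (pcι X (ptC X (U.ι y)) U).isClosedEmbedding.isEmbedding p
  refine h1.trans (pdim_mono (X.res U) ?_)
  refine U.ι.isOpenEmbedding.isInducing.specializes_iff.1 ?_
  rw [specializes_iff_mem_closure, ← Scheme.Hom.comp_apply, pcι_ι]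
  exact clι_mem X (ptC X (U.ι y)) _

theorem pdim_res (U : X.scheme.Opens) (y : (X.res U).scheme) :
    WeilCoh.pdim (X.res U).scheme y = WeilCoh.pdim X.scheme (U.ι y) :=
  le_antisymm (pdim_le_of_isInducing (X := X.res U) (Y := X) U.ι U.ι.isOpenEmbedding.isEmbedding y)
    (pdim_le_pdim_res X U y)

theorem pdim_of_isOpenImmersion {Y : BMCoh.Obj V} (f : Y.scheme ⟶ X.scheme) [IsOpenImmersion f]
    (y : Y.scheme) : WeilCoh.pdim Y.scheme y = WeilCoh.pdim X.scheme (f y) := by
  refine le_antisymm (pdim_le_of_isInducing f f.isOpenEmbedding.isEmbedding y) ?_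
  have e : f y = f.opensRange.ι (f.isoOpensRange.hom y) := by
    rw [← Scheme.Hom.comp_apply, Scheme.Hom.isoOpensRange_hom_ι]
  rw [e]
  refine (pdim_le_pdim_res X f.opensRange _).trans ?_
  have h := pdim_le_of_isInducing (X := X.res f.opensRange) (Y := Y) f.isoOpensRange.inv
    f.isoOpensRange.inv.isOpenEmbedding.isEmbedding (f.isoOpensRange.hom y)
  rwa [← Scheme.Hom.comp_apply, Iso.hom_inv_id] at h

theorem dim_res_le (U : X.scheme.Opens) :
    WeilCoh.dim (U : Scheme.{u}) ≤ WeilCoh.dim X.scheme :=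
  dim_le_of_isEmbedding (X := X.res U) (Y := X) U.ι U.ι.isOpenEmbedding.isEmbedding

theorem dim_res_eq_of_mem {U : X.scheme.Opens} {y : X.scheme} (hy : y ∈ U)
    (hd : WeilCoh.pdim X.scheme y = WeilCoh.dim X.scheme) :
    WeilCoh.dim (U : Scheme.{u}) = WeilCoh.dim X.scheme := by
  refine le_antisymm (dim_res_le X U) ?_
  rw [← hd]
  exact (pdim_le_pdim_res X U ⟨y, hy⟩).trans (pdim_le_dim (X.res U) _)

theorem dim_eq_of_containsFj {j : ℕ} {U : X.scheme.Opens} (h : BMCoh.ContainsFj X j U) :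
    WeilCoh.dim (U : Scheme.{u}) = WeilCoh.dim X.scheme := by
  rcases isEmpty_or_nonempty X.scheme with h0 | h0
  · rw [show U = ⊤ from Opens.ext (Set.ext fun z => isEmptyElim z), BMCoh.dim_top]
  · obtain ⟨y, hy⟩ := exists_pdim_eq_dim X
    exact dim_res_eq_of_mem X (h y (by rw [WeilCoh.codim, hy, Nat.sub_self]; exact Nat.zero_le _)) hy

/-- an open containing the points of codimension at most `j`, as an index of `fjGp` -/
abbrev fIdx (j : ℕ) (U : X.scheme.Opens) (h : BMCoh.ContainsFj X j U) :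
    BMCoh.Idx X (BMCoh.ContainsFj X j) :=
  ⟨U, h, dim_eq_of_containsFj X h⟩

theorem idxDir_fj (j : ℕ) : IdxDir X (BMCoh.ContainsFj X j) :=
  ⟨⟨fIdx X j ⊤ fun _ _ => trivial⟩, fun U U' =>
    ⟨fIdx X j (U.1 ⊓ U'.1) fun y hy => ⟨U.2.1 y hy, U'.2.1 y hy⟩,
      (inf_le_left : U.1 ⊓ U'.1 ≤ U.1), (inf_le_right : U.1 ⊓ U'.1 ≤ U'.1)⟩⟩

theorem codim_res (U : X.scheme.Opens) (hd : WeilCoh.dim (U : Scheme.{u}) = WeilCoh.dim X.scheme)
    (y : (X.res U).scheme) :
    WeilCoh.codim (X.res U).scheme y = WeilCoh.codim X.scheme (U.ι y) := by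
  unfold WeilCoh.codim
  rw [pdim_res, hd]

theorem codim_lt_of_specializes {x z : X.scheme} (h : x ⤳ z) (hne : z ≠ x) :
    WeilCoh.codim X.scheme x < WeilCoh.codim X.scheme z := by
  have h1 := pdim_lt X h hne
  have h2 := pdim_le_dim X x
  unfold WeilCoh.codim
  omega

theorem codim_mono {x z : X.scheme} (h : x ⤳ z) :
    WeilCoh.codim X.scheme x ≤ WeilCoh.codim X.scheme z := by
  have h1 := pdim_mono X h
  unfold WeilCoh.codim
  omega

theorem codim_of_mem_ptC {x z : X.scheme} (h : z ∈ ptC X x) :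
    WeilCoh.codim X.scheme x ≤ WeilCoh.codim X.scheme z :=
  codim_mono X (specializes_iff_mem_closure.2 h)

theorem noetherianSpace : NoetherianSpace X.scheme := by
  have := BMCoh.IsConstructible.isNoetherian X.mem
  infer_instance

end points

section inclusion

variable (X : BMCoh.Obj V) {F G : Closeds X.scheme}

/-- the inclusion of reduced closed subschemes -/
abbrev clIncl (h : F ≤ G) : (clSub X F).scheme ⟶ (clSub X G).scheme :=
  Scheme.IdealSheafData.inclusion (Scheme.IdealSheafData.vanishingIdeal_antimono h)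

theorem clIncl_ι (h : F ≤ G) : clIncl X h ≫ clι X G = clι X F :=
  Scheme.IdealSheafData.inclusion_subschemeι _

theorem pc_le_preimage (h : F ≤ G) (O : X.scheme.Opens) :
    pc X F O ≤ (clIncl X h) ⁻¹ᵁ pc X G O := by
  intro z hz
  show clι X G (clIncl X h z) ∈ O
  rw [← Scheme.Hom.comp_apply, clIncl_ι]
  exact hz

/-- the morphism between pieces of nested closed sets -/
abbrev pcIncl (h : F ≤ G) (O : X.scheme.Opens) :
    ((clSub X F).res (pc X F O)).scheme ⟶ ((clSub X G).res (pc X G O)).scheme :=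
  (clIncl X h).resLE (pc X G O) (pc X F O) (pc_le_preimage X h O)

theorem pcIncl_ι (h : F ≤ G) (O : X.scheme.Opens) : pcIncl X h O ≫ pcι X G O = pcι X F O := by
  rw [← cancel_mono O.ι, Category.assoc, pcι_ι, pcι_ι, ← Category.assoc,
    Scheme.Hom.resLE_comp_ι, Category.assoc, clIncl_ι]

instance (h : F ≤ G) (O : X.scheme.Opens) : IsClosedImmersion (pcIncl X h O) := by
  have : IsClosedImmersion (pcIncl X h O ≫ pcι X G O) := by rw [pcIncl_ι]; infer_instance
  exact IsClosedImmersion.of_comp_isClosedImmersion _ (pcι X G O)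

theorem mem_range_pcIncl (h : F ≤ G) (O : X.scheme.Opens) (y : (pc X G O : Scheme.{u})) :
    y ∈ Set.range (pcIncl X h O) ↔ clι X G ((pc X G O).ι y) ∈ F := by
  constructor
  · rintro ⟨z, rfl⟩
    rw [← Scheme.Hom.comp_apply, ← Scheme.Hom.comp_apply, ← Category.assoc,
      Scheme.Hom.resLE_comp_ι, Category.assoc, clIncl_ι]
    exact clι_mem X F _
  · intro hy
    have hy' : pcι X G O y ∈ O.ι ⁻¹' (F : Set X.scheme) := by
      show O.ι (pcι X G O y) ∈ F
      rw [← Scheme.Hom.comp_apply, pcι_ι]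
      exact hy
    rw [← range_pcι] at hy'
    obtain ⟨z, hz⟩ := hy'
    refine ⟨z, (pcι X G O).isClosedEmbedding.injective ?_⟩
    rw [← Scheme.Hom.comp_apply, pcIncl_ι]
    exact hz

end inclusion

/-- a closed immersion with open range into a reduced scheme is an open immersion -/
theorem isOpenImmersion_of_isClosedImmersion {Y Z : Scheme.{u}} (f : Y ⟶ Z) [IsClosedImmersion f]
    [IsReduced Z] (h : IsOpen (Set.range f)) : IsOpenImmersion f := by
  let O : Z.Opens := ⟨Set.range f, h⟩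
  have hle : (⊤ : Y.Opens) ≤ f ⁻¹ᵁ O := fun z _ => ⟨z, rfl⟩
  have : IsClosedImmersion (f ∣_ O) := inferInstance
  have : Surjective (f ∣_ O) := by
    constructor
    rintro ⟨y, ⟨z, rfl⟩⟩
    refine ⟨⟨z, ⟨z, rfl⟩⟩, O.ι.isOpenEmbedding.injective ?_⟩
    rw [← Scheme.Hom.comp_apply, morphismRestrict_ι]
    rfl
  have := isIso_of_isClosedImmersion_of_surjective (f ∣_ O)
  have e : f = Y.topIso.inv ≫ Y.homOfLE hle ≫ (f ∣_ O) ≫ O.ι := by
    simp [morphismRestrict_ι]
  rw [e]
  infer_instance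

theorem isReduced_clSub (X : BMCoh.Obj V) (F : Closeds X.scheme) :
    IsReduced (clSub X F).scheme :=
  FpqcDescent.isReduced_subscheme_vanishingIdeal F

end Groth.Agent.BMCohLib
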