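import Groth.Agent.BMCohLib.Disjoint
import Groth.Prelude.Def_BMCoh2

/-!
# One codimension step: extending and supporting classes at one point
-/

set_option autoImplicit false
set_option linter.unusedSectionVars false

universe u

open AlgebraicGeometry CategoryTheory CategoryTheory.Limits Opposite TopologicalSpace

noncomputable section

namespace Groth.Agent.BMCohLib

variable {V : ObjectProperty Scheme.{u}} [BMCoh.IsConstructible V]

section geometry

variable (X : BMCoh.Obj V)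

/-- an open minus a closed set -/
abbrev oMinus (O : X.scheme.Opens) (F : Closeds X.scheme) : X.scheme.Opens :=
  ⟨(O : Set X.scheme) \ F, O.isOpen.sdiff F.isClosed⟩

theorem oMinus_le (O : X.scheme.Opens) (F : Closeds X.scheme) : oMinus X O F ≤ O :=
  fun _ h => h.1

theorem not_mem_ptC {x y : X.scheme} (h : WeilCoh.codim X.scheme x = WeilCoh.codim X.scheme y)
    (hne : x ≠ y) : x ∉ ptC X y := fun hx =>
  absurd h (codim_lt_of_specializes X (specializes_iff_mem_closure.2 hx) hne).ne'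

theorem mem_ptC_self (x : X.scheme) : x ∈ ptC X x := subset_closure (Set.mem_singleton x)

theorem eq_of_mem_ptC_of_codim_le {x y : X.scheme} (hy : y ∈ ptC X x)
    (h : WeilCoh.codim X.scheme y ≤ WeilCoh.codim X.scheme x) : y = x := by
  by_contra hne
  exact absurd (codim_lt_of_specializes X (specializes_iff_mem_closure.2 hy) hne) (not_lt.2 h)

theorem containsFj_oMinus {j k : ℕ} {O : X.scheme.Opens} (hO : BMCoh.ContainsFj X j O)
    {F : Closeds X.scheme} (hF : ∀ y ∈ F, k ≤ WeilCoh.codim X.scheme y) (hjk : j < k) :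
    BMCoh.ContainsFj X j (oMinus X O F) :=
  fun y hy => ⟨hO y hy, fun hF' => absurd (hF y hF') (not_le.2 (lt_of_le_of_lt hy hjk))⟩

theorem containsFj_of_le {j : ℕ} {O O' : X.scheme.Opens} (hO : BMCoh.ContainsFj X j O)
    (h : O ≤ O') : BMCoh.ContainsFj X j O' := fun y hy => h (hO y hy)

theorem succ_le_codim_of_not_mem {j : ℕ} {U : X.scheme.Opens} (hU : BMCoh.ContainsFj X j U)
    {y : X.scheme} (hy : y ∉ U) : j + 1 ≤ WeilCoh.codim X.scheme y :=
  not_le.1 fun h => hy (hU y h)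

theorem disjoint_ptC_of_not_mem {x : X.scheme} {U : X.scheme.Opens} (hx : x ∉ U) {z : X.scheme}
    (hz : z ∈ U) : z ∉ ptC X x :=
  fun h => hx ((specializes_iff_mem_closure.2 h).mem_open U.isOpen hz)

theorem relCodim_pc {j k : ℕ} {x : X.scheme} {O : X.scheme.Opens} (hx : x ∈ O)
    (hk : WeilCoh.codim X.scheme x = k) (hO : BMCoh.ContainsFj X j O) :
    BMCoh.relCodim ((pc X (ptC X x) O : (X.ptSub x).scheme.Opens) : Scheme.{u})
      (O : Scheme.{u}) = (k : ℤ) := by
  rw [BMCoh.relCodim, dim_pc X x hx, dim_eq_of_containsFj X hO]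
  have := (codim_eq_iff X x k).1 hk
  omega

/-- a closed set has finitely many points of least codimension, and each has a neighbourhood
meeting the closed set only inside its closure -/
theorem exists_isolating (C : Closeds X.scheme) {k : ℕ}
    (hC : ∀ y ∈ C, k ≤ WeilCoh.codim X.scheme y) :
    {y : X.scheme | y ∈ C ∧ WeilCoh.codim X.scheme y = k}.Finite ∧
      ∀ x ∈ C, WeilCoh.codim X.scheme x = k →
        ∃ O : X.scheme.Opens, x ∈ O ∧ ∀ z ∈ O, z ∈ C → z ∈ ptC X x := by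
  have := noetherianSpace X
  obtain ⟨S, hSf, hSc, hSi, hS⟩ :=
    NoetherianSpace.exists_finite_set_isClosed_irreducible (α := X.scheme) C.isClosed
  have key : ∀ t ∈ S, ∀ x ∈ t, WeilCoh.codim X.scheme x = k → t = (ptC X x : Set X.scheme) := by
    intro t ht x hx hk
    obtain ⟨g, hg⟩ := QuasiSober.sober (hSi t ht) (hSc t ht)
    have hgC : g ∈ C := by
      rw [← SetLike.mem_coe, hS]
      exact Set.mem_sUnion.2 ⟨t, ht, hg.mem⟩
    have hxg : x = g := eq_of_mem_ptC_of_codim_le X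
      (specializes_iff_mem_closure.1 (hg.specializes hx)) (hk.le.trans (hC g hgC))
    rw [hxg]
    exact hg.def.symm
  constructor
  · have : ∀ t ∈ S, {y : X.scheme | y ∈ t ∧ WeilCoh.codim X.scheme y = k}.Subsingleton :=
      fun t ht y hy z hz => eq_of_mem_ptC_of_codim_le X
        (x := z) (by rw [← SetLike.mem_coe, ← key t ht z hz.1 hz.2]; exact hy.1)
        (hy.2.trans hz.2.symm).le
    refine ((hSf.biUnion fun t ht => (this t ht).finite)).subset fun y hy => ?_
    have hy' : y ∈ (C : Set X.scheme) := hy.1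
    rw [hS] at hy'
    obtain ⟨t, ht, hyt⟩ := hy'
    exact Set.mem_iUnion₂.2 ⟨t, ht, hyt, hy.2⟩
  · intro x hx hk
    have hcl : IsClosed (⋃ t ∈ {t ∈ S | x ∉ t}, t) :=
      (hSf.subset fun t ht => ht.1).isClosed_biUnion fun t ht => hSc t ht.1
    refine ⟨⟨(⋃ t ∈ {t ∈ S | x ∉ t}, t)ᶜ, hcl.isOpen_compl⟩, ?_, ?_⟩
    · intro h
      obtain ⟨t, ht, hxt⟩ := Set.mem_iUnion₂.1 h
      exact ht.2 hxt
    · intro z hz hzC
      have hz' : z ∈ (C : Set X.scheme) := hzC
      rw [hS] at hz'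
      obtain ⟨t, ht, hzt⟩ := hz'
      have hxt : x ∈ t := by
        by_contra hxt
        exact hz (Set.mem_iUnion₂.2 ⟨t, ⟨ht, hxt⟩, hzt⟩)
      rw [← SetLike.mem_coe, ← key t ht x hxt hk]
      exact hzt

/-- the points of codimension `j + 1` outside an open containing those of codimension `≤ j` -/
theorem exists_finset_missing {j : ℕ} {U : X.scheme.Opens} (hU : BMCoh.ContainsFj X j U) :
    ∃ S : Finset X.scheme, ∀ y, WeilCoh.codim X.scheme y = j + 1 → y ∉ U → y ∈ S :=
  ⟨(exists_isolating X (k := j + 1) ⟨(U : Set X.scheme)ᶜ, U.isOpen.isClosed_compl⟩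
    fun _ hy => succ_le_codim_of_not_mem X hU hy).1.toFinset,
    fun _ hy hyU => (Set.Finite.mem_toFinset _).2 ⟨hyU, hy⟩⟩

/-- adding a point of codimension `j + 1` to an open containing those of codimension `≤ j` -/
theorem exists_adjoin {j : ℕ} {U : X.scheme.Opens} (hU : BMCoh.ContainsFj X j U) {x : X.scheme}
    (hx : WeilCoh.codim X.scheme x = j + 1) (hxU : x ∉ U) :
    ∃ O : X.scheme.Opens, U ≤ O ∧ x ∈ O ∧
      (U : Set X.scheme) = (O : Set X.scheme) \ ptC X x := by
  obtain ⟨O, hxO, hO⟩ := (exists_isolating X (k := j + 1)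
    ⟨(U : Set X.scheme)ᶜ, U.isOpen.isClosed_compl⟩
    fun _ hy => succ_le_codim_of_not_mem X hU hy).2 x hxU hx
  refine ⟨U ⊔ O, le_sup_left, Or.inr hxO, Set.ext fun z => ⟨fun hz => ?_, ?_⟩⟩
  · exact ⟨Or.inl hz, disjoint_ptC_of_not_mem X hxU hz⟩
  · rintro ⟨hz | hz, hzx⟩
    · exact hz
    · by_contra hzU
      exact hzx (hO z hz hzU)

end geometry

variable {R : Type u} [CommRing R] {A : BMCoh.Coefs R} (T : BMCoh.PreTheory V R A)
  (X : BMCoh.Obj V) {M : A.Cat} {i n i' n' : ℤ}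

/-- a class of a point is represented on a piece closed in an open containing the points of a
given codimension -/
theorem exists_rep_closed {x : X.scheme} {m : ℕ} (hx : WeilCoh.codim X.scheme x = m)
    (ξ : T.ptGp X x M i n) :
    ∃ (O : X.scheme.Opens) (_ : BMCoh.ContainsFj X m O) (hxO : x ∈ O)
      (b : T.gp ((X.ptSub x).res (pIdx X x O hxO).1) M i n),
      ((T.ptι X x i n (pIdx X x O hxO)).app M).hom b = ξ := by
  obtain ⟨W, b, rfl⟩ := oc_rep T i n M (idxDir_pt X x) ξ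
  obtain ⟨O, hxO, rfl⟩ := exists_pIdx_eq X x W
  let O' : X.scheme.Opens := O ⊔ oMinus X ⊤ (ptC X x)
  have hO' : BMCoh.ContainsFj X m O' := fun y hy => by
    by_cases hyx : y ∈ ptC X x
    · exact Or.inl (eq_of_mem_ptC_of_codim_le X hyx (hy.trans hx.ge) ▸ hxO)
    · exact Or.inr ⟨trivial, hyx⟩
  have hle : pIdx X x O' (Or.inl hxO) ≤ pIdx X x O hxO := by
    intro z hz
    rcases hz with hz | hz
    · exact hz
    · exact absurd (clι_mem X (ptC X x) z) hz.2
  exact ⟨O', hO', Or.inl hxO, (T.pull (ilink hle) M i n).hom b, oc_ι_pull T hle b⟩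

/-- a vanishing class of a point vanishes on a piece cut out by a smaller open -/
theorem exists_shrink {x : X.scheme} {O : X.scheme.Opens} (hxO : x ∈ O)
    (b : T.gp ((X.ptSub x).res (pIdx X x O hxO).1) M i n)
    (hb : ((T.ptι X x i n (pIdx X x O hxO)).app M).hom b = 0) :
    ∃ (O' : X.scheme.Opens) (hxO' : x ∈ O') (h : pIdx X x O' hxO' ≤ pIdx X x O hxO),
      O' ≤ O ∧ (T.pull (ilink h) M i n).hom b = 0 := by
  obtain ⟨W, h, hW⟩ := oc_eq_zero T (idxDir_pt X x) b hb
  obtain ⟨O', hxO', rfl⟩ := exists_pIdx_eq X x W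
  refine ⟨O' ⊓ O, ⟨hxO', hxO⟩, pc_mono X _ inf_le_right, inf_le_right, ?_⟩
  have h' : pIdx X x (O' ⊓ O) ⟨hxO', hxO⟩ ≤ pIdx X x O' hxO' := pc_mono X _ inf_le_left
  rw [← pull_pull_eq T (ilink h') (ilink h) (ilink (pc_mono X _ inf_le_right))
    ((X.ptSub x).scheme.homOfLE_homOfLE h' h) b, hW, map_zero]

/-- the residue at a point of a class on the open part of a cut, as a class of the point -/
abbrev ptRes {j : ℕ} {U O : X.scheme.Opens} {x : X.scheme} (hx : x ∈ O)
    (hU : BMCoh.ContainsFj X j U) (hle : U ≤ O)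
    (he : (U : Set X.scheme) = (O : Set X.scheme) \ ptC X x)
    (hk : WeilCoh.codim X.scheme x = j + 1) (M : A.Cat) (i n i' n' : ℤ)
    (hi : i' = i + 1 - 2 * ((j : ℤ) + 1)) (hn : n' = n - ((j : ℤ) + 1)) :
    T.gp (X.res U) M i n ⟶ T.ptGp X x M i' n' :=
  T.res (cut X (ptC X x) hle
      ((dim_eq_of_containsFj X hU).trans
        (dim_eq_of_containsFj X (containsFj_of_le X hU hle)).symm) he) M i n i' n'
      (by show i' = i + 1 - 2 * BMCoh.relCodim _ _
          rw [relCodim_pc X hx hk (containsFj_of_le X hU hle)]; push_cast; exact hi)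
      (by show n' = n - BMCoh.relCodim _ _
          rw [relCodim_pc X hx hk (containsFj_of_le X hU hle)]; push_cast; exact hn) ≫
    (T.ptι X x i' n' (pIdx X x O hx)).app M

/-- the push forward from a piece closed in an open, as a class on the open -/
abbrev pcPush {k j : ℕ} {U : X.scheme.Opens} {x : X.scheme} (hx : x ∈ U)
    (hU : BMCoh.ContainsFj X j U) (hk : WeilCoh.codim X.scheme x = k) (M : A.Cat) (i n i' n' : ℤ)
    (hi : i' = i + 2 * (k : ℤ)) (hn : n' = n + (k : ℤ)) :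
    T.gp ((X.ptSub x).res (pIdx X x U hx).1) M i n ⟶ T.gp (X.res U) M i' n' :=
  T.push (X := (X.ptSub x).res (pIdx X x U hx).1) (Y := X.res U) (pcι X (ptC X x) U) M i n i' n'
    (by show i' = i + 2 * BMCoh.relCodim _ _
        rw [relCodim_pc X hx hk hU]; exact hi)
    (by show n' = n + BMCoh.relCodim _ _
        rw [relCodim_pc X hx hk hU]; exact hn)

theorem pull_pcPush {k j : ℕ} {U U' : X.scheme.Opens} {x : X.scheme} (hx : x ∈ U) (hx' : x ∈ U')
    (hU : BMCoh.ContainsFj X j U) (hU' : BMCoh.ContainsFj X j U')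
    (hk : WeilCoh.codim X.scheme x = k) (h : U' ≤ U)
    (hi : i' = i + 2 * (k : ℤ)) (hn : n' = n + (k : ℤ))
    (b : T.gp ((X.ptSub x).res (pIdx X x U hx).1) M i n) :
    (T.pull (X.resLE h ((dim_eq_of_containsFj X hU').trans (dim_eq_of_containsFj X hU).symm))
        M i' n').hom ((pcPush T X hx hU hk M i n i' n' hi hn).hom b) =
      (pcPush T X hx' hU' hk M i n i' n' hi hn).hom
        ((T.pull (ilink (show pIdx X x U' hx' ≤ pIdx X x U hx from pc_mono X _ h)) M i n).hom b) :=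
  push_pull_apply T (X := (X.ptSub x).res (pIdx X x U hx).1) (Y := X.res U)
    (X' := (X.ptSub x).res (pIdx X x U' hx').1) (Y' := X.res U')
    (pcι X (ptC X x) U) (pcι X (ptC X x) U')
    (X.resLE h ((dim_eq_of_containsFj X hU').trans (dim_eq_of_containsFj X hU).symm))
    (ilink (show pIdx X x U' hx' ≤ pIdx X x U hx from pc_mono X _ h))
    (isPullback_pcι X (ptC X x) h) _ _ _ _ b

/-- if the class of the point vanishes, so does its push forward in `H(F_m X)` -/
theorem fjι_pcPush_eq_zero {m : ℕ} {U : X.scheme.Opens} {x : X.scheme} (hx : x ∈ U)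
    (hU : BMCoh.ContainsFj X m U) (hk : WeilCoh.codim X.scheme x = m)
    (hi : i' = i + 2 * (m : ℤ)) (hn : n' = n + (m : ℤ))
    (b : T.gp ((X.ptSub x).res (pIdx X x U hx).1) M i n)
    (hb : ((T.ptι X x i n (pIdx X x U hx)).app M).hom b = 0) :
    ((T.fjι X m i' n' (fIdx X m U hU)).app M).hom
      ((pcPush T X hx hU hk M i n i' n' hi hn).hom b) = 0 := by
  obtain ⟨O', hxO', h, hO'U, hb'⟩ := exists_shrink T X hx b hb
  let U' : X.scheme.Opens := U ⊓ (O' ⊔ oMinus X ⊤ (ptC X x))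
  have hU'c : BMCoh.ContainsFj X m U' := fun y hy => by
    refine ⟨hU y hy, ?_⟩
    by_cases hyx : y ∈ ptC X x
    · exact Or.inl (eq_of_mem_ptC_of_codim_le X hyx (hy.trans hk.ge) ▸ hxO')
    · exact Or.inr ⟨trivial, hyx⟩
  have hxU' : x ∈ U' := ⟨hx, Or.inl hxO'⟩
  have hle : U' ≤ U := inf_le_left
  have hle' : pIdx X x U' hxU' ≤ pIdx X x O' hxO' := by
    intro z hz
    rcases hz.2 with hz | hz
    · exact hz
    · exact absurd (clι_mem X (ptC X x) z) hz.2
  rw [← oc_ι_pull T (U := fIdx X m U' hU'c) (U' := fIdx X m U hU) hle]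
  rw [pull_pcPush T X hx hxU' hU hU'c hk hle hi hn b]
  rw [← pull_pull_eq T (ilink hle') (ilink h) (ilink (pc_mono X _ hle))
    ((X.ptSub x).scheme.homOfLE_homOfLE hle' h) b, hb', map_zero, map_zero, map_zero]

variable {j : ℕ}

/-- if the residue at `x` vanishes the class extends over `x` -/
theorem exists_extend {U O : X.scheme.Opens} {x : X.scheme} (hx : x ∈ O)
    (hU : BMCoh.ContainsFj X j U) (hle : U ≤ O)
    (he : (U : Set X.scheme) = (O : Set X.scheme) \ ptC X x)
    (hk : WeilCoh.codim X.scheme x = j + 1)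
    (hi : i' = i + 1 - 2 * ((j : ℤ) + 1)) (hn : n' = n - ((j : ℤ) + 1))
    (a : T.gp (X.res U) M i n)
    (h0 : (ptRes T X hx hU hle he hk M i n i' n' hi hn).hom a = 0) :
    ∃ (U1 : BMCoh.Idx X (BMCoh.ContainsFj X j)) (h : fIdx X j U hU ≤ U1) (b : _),
      x ∈ U1.1 ∧ (T.pull (ilink h) M i n).hom b = a := by
  obtain ⟨O', hxO', h, hO'O, hO'⟩ := exists_shrink T X hx _ h0
  let O2 : X.scheme.Opens := U ⊔ O'
  have hle2 : O2 ≤ O := sup_le hle hO'O
  have hU2 : U ≤ O2 := le_sup_left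
  have he2 : (U : Set X.scheme) = (O2 : Set X.scheme) \ ptC X x := by
    refine Set.ext fun z => ⟨fun hz => ⟨hU2 hz, ?_⟩, fun hz => ?_⟩
    · rw [he] at hz; exact hz.2
    · rw [he]; exact ⟨hle2 hz.1, hz.2⟩
  have hx2 : x ∈ O2 := Or.inr hxO'
  have hp : pIdx X x O2 hx2 ≤ pIdx X x O' hxO' := by
    intro z hz
    rcases hz with hz | hz
    · have hz' : clι X (ptC X x) z ∈ (U : Set X.scheme) := hz
      rw [he] at hz'
      exact absurd (clι_mem X (ptC X x) z) hz'.2
    · exact hz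
  have hc := containsFj_of_le X hU hle
  have hc2 := containsFj_of_le X hU hU2
  let D := cut X (ptC X x) hle ((dim_eq_of_containsFj X hU).trans (dim_eq_of_containsFj X hc).symm) he
  let D2 := cut X (ptC X x) hU2
    ((dim_eq_of_containsFj X hU).trans (dim_eq_of_containsFj X hc2).symm) he2
  have hr := res_pull_apply T D D2
    (X.resLE hle2 ((dim_eq_of_containsFj X hc2).trans (dim_eq_of_containsFj X hc).symm))
    (ilink (show pIdx X x O2 hx2 ≤ pIdx X x O hx from pc_mono X _ hle2)) (𝟙 _)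
    (isPullback_pcι X (ptC X x) hle2).w
    (by
      show 𝟙 _ ≫ X.scheme.homOfLE hle = X.scheme.homOfLE hU2 ≫ X.scheme.homOfLE hle2
      rw [Category.id_comp, Scheme.homOfLE_homOfLE])
    (i' := i') (n' := n')
    (by show i' = i + 1 - 2 * BMCoh.relCodim _ _
        rw [relCodim_pc X hx hk hc]; push_cast; exact hi)
    (by show n' = n - BMCoh.relCodim _ _
        rw [relCodim_pc X hx hk hc]; push_cast; exact hn)
    (by show i' = i + 1 - 2 * BMCoh.relCodim _ _
        rw [relCodim_pc X hx2 hk hc2]; push_cast; exact hi)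
    (by show n' = n - BMCoh.relCodim _ _
        rw [relCodim_pc X hx2 hk hc2]; push_cast; exact hn) a
  rw [pull_id] at hr
  have hz : (T.res D2 M i n i' n' _ _).hom a = 0 := hr.symm.trans (by
    rw [← pull_pull_eq T (ilink hp) (ilink h) (ilink (pc_mono X _ hle2))
      ((X.ptSub x).scheme.homOfLE_homOfLE hp h)]
    exact (congrArg (T.pull (ilink hp) M i' n').hom hO').trans (map_zero _))
  obtain ⟨b, hb⟩ := exists_pull_eq T D2 _ _ a hz
  exact ⟨fIdx X j O2 hc2, hU2, b, hx2, hb⟩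

/-- a class vanishing off `x` is pushed forward from `x`, and can be corrected to vanish near `x` -/
theorem exists_support {U U' : X.scheme.Opens} (hU : BMCoh.ContainsFj X (j + 1) U)
    (hU' : BMCoh.ContainsFj X j U') (hle : U' ≤ U) {x : X.scheme}
    (hk : WeilCoh.codim X.scheme x = j + 1) (hxU' : x ∉ U')
    (hi : i' = i + 2 * ((j + 1 : ℕ) : ℤ)) (hn : n' = n + ((j + 1 : ℕ) : ℤ))
    (a : T.gp (X.res U) M i' n')
    (ha : (T.pull (X.resLE hle
      ((dim_eq_of_containsFj X hU').trans (dim_eq_of_containsFj X hU).symm)) M i' n').hom a = 0) :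
    ∃ (U2 U1 : X.scheme.Opens) (hU2 : BMCoh.ContainsFj X (j + 1) U2)
      (hU1 : BMCoh.ContainsFj X j U1) (hx2 : x ∈ U2) (h21 : U1 ≤ U2) (h2 : U2 ≤ U)
      (b : T.gp ((X.ptSub x).res (pIdx X x U2 hx2).1) M i n),
      U' ≤ U1 ∧ x ∈ U1 ∧
      (T.pull (X.resLE h21
        ((dim_eq_of_containsFj X hU1).trans (dim_eq_of_containsFj X hU2).symm)) M i' n').hom
        ((T.pull (X.resLE h2
          ((dim_eq_of_containsFj X hU2).trans (dim_eq_of_containsFj X hU).symm)) M i' n').hom a -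
        (pcPush T X hx2 hU2 hk M i n i' n' hi hn).hom b) = 0 := by
  have hxU : x ∈ U := hU x hk.le
  obtain ⟨O, hUO, hxO, he⟩ := exists_adjoin X hU' hk hxU'
  let U1 : X.scheme.Opens := O ⊓ U
  have hU'1 : U' ≤ U1 := le_inf hUO hle
  have hU1c := containsFj_of_le X hU' hU'1
  have hx1 : x ∈ U1 := ⟨hxO, hxU⟩
  have he1 : (U' : Set X.scheme) = (U1 : Set X.scheme) \ ptC X x := by
    refine Set.ext fun z => ⟨fun hz => ⟨hU'1 hz, ?_⟩, fun hz => ?_⟩
    · rw [he] at hz; exact hz.2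
    · rw [he]; exact ⟨hz.1.1, hz.2⟩
  let U2 : X.scheme.Opens := U ⊓ (U1 ⊔ oMinus X ⊤ (ptC X x))
  have hU2c : BMCoh.ContainsFj X (j + 1) U2 := fun y hy => by
    refine ⟨hU y hy, ?_⟩
    by_cases hyx : y ∈ ptC X x
    · exact Or.inl (eq_of_mem_ptC_of_codim_le X hyx (hy.trans hk.ge) ▸ hx1)
    · exact Or.inr ⟨trivial, hyx⟩
  have h21 : U1 ≤ U2 := le_inf inf_le_right le_sup_left
  have hx2 : x ∈ U2 := h21 hx1
  have hp : pIdx X x U2 hx2 ≤ pIdx X x U1 hx1 := by
    intro z hz
    rcases hz.2 with hz | hz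
    · exact hz
    · exact absurd (clι_mem X (ptC X x) z) hz.2
  have d1 := dim_eq_of_containsFj X hU1c
  have d' := dim_eq_of_containsFj X hU'
  have d := dim_eq_of_containsFj X hU
  let D := cut X (ptC X x) hU'1 (d'.trans d1.symm) he1
  let a1 := (T.pull (X.resLE (inf_le_right : U1 ≤ U) (d1.trans d.symm)) M i' n').hom a
  have ha1 : (T.pull D.j M i' n').hom a1 = 0 := by
    rw [pull_pull_eq T D.j (X.resLE (inf_le_right : U1 ≤ U) (d1.trans d.symm))
      (X.resLE hle (d'.trans d.symm))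
      (X.scheme.homOfLE_homOfLE hU'1 (inf_le_right : U1 ≤ U))]
    exact ha
  obtain ⟨b1, hb1⟩ := exists_push_eq T D (i := i) (n := n)
    (by show i' = i + 2 * BMCoh.relCodim _ _
        rw [relCodim_pc X hx1 hk hU1c]; exact hi)
    (by show n' = n + BMCoh.relCodim _ _
        rw [relCodim_pc X hx1 hk hU1c]; exact hn) a1 ha1
  refine ⟨U2, U1, hU2c, hU1c, hx2, h21, inf_le_left, (T.pull (ilink hp) M i n).hom b1, hU'1, hx1, ?_⟩
  rw [map_sub, pull_pull_eq T (X.resLE h21 _) (X.resLE (inf_le_left : U2 ≤ U) _)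
    (X.resLE (inf_le_right : U1 ≤ U) (d1.trans d.symm))
    (X.scheme.homOfLE_homOfLE h21 (inf_le_left : U2 ≤ U)),
    sub_eq_zero]
  refine hb1.symm.trans ?_
  refine Eq.trans ?_
    (pull_pcPush T X hx2 hx1 (containsFj_of_le X hU1c h21) hU1c hk h21 hi hn _).symm
  rw [pull_pull_eq T (ilink (show pIdx X x U1 hx1 ≤ pIdx X x U2 hx2 from pc_mono X _ h21))
    (ilink hp) (𝟙 _) (((X.ptSub x).scheme.homOfLE_homOfLE
      (show pIdx X x U1 hx1 ≤ pIdx X x U2 hx2 from pc_mono X _ h21) hp).trans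
      (Scheme.homOfLE_rfl _ _)), pull_id]

end Groth.Agent.BMCohLib
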