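import Groth.Agent.BMCohLib.Data

/-!
# Pieces of several points at once; exactness at the sums over points
-/

set_option autoImplicit false
set_option linter.unusedSectionVars false

universe u

open AlgebraicGeometry CategoryTheory CategoryTheory.Limits Opposite TopologicalSpace DirectSum

noncomputable section

namespace Groth.Agent.BMCohLib

variable {V : ObjectProperty Scheme.{u}} [BMCoh.IsConstructible V]

section geometry

variable (X : BMCoh.Obj V) {k : ℕ}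

/-- the union of the closures of finitely many points -/
abbrev ptsC (S : Finset (X.cdPt k)) : Closeds X.scheme :=
  ⟨⋃ x ∈ S, closure {x.1}, S.finite_toSet.isClosed_biUnion fun _ _ => isClosed_closure⟩

theorem mem_ptsC {S : Finset (X.cdPt k)} {z : X.scheme} :
    z ∈ ptsC X S ↔ ∃ x ∈ S, z ∈ ptC X x.1 := by
  rw [← SetLike.mem_coe]
  simp

theorem ptC_le_ptsC {S : Finset (X.cdPt k)} {x : X.cdPt k} (hx : x ∈ S) :
    ptC X x.1 ≤ ptsC X S :=
  fun _ hz => (mem_ptsC X).2 ⟨x, hx, hz⟩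

theorem le_codim_of_mem_ptsC {S : Finset (X.cdPt k)} {z : X.scheme} (hz : z ∈ ptsC X S) :
    k ≤ WeilCoh.codim X.scheme z := by
  obtain ⟨x, -, hx⟩ := (mem_ptsC X).1 hz
  exact x.2 ▸ codim_of_mem_ptC X hx

open Classical in
/-- neighbourhoods of finitely many points of one codimension meeting one closure each -/
def sepOpen (S : Finset (X.cdPt k)) (O : X.cdPt k → X.scheme.Opens) : X.scheme.Opens :=
  ⟨⋃ x ∈ S, ((O x : Set X.scheme) \ (ptsC X (S.erase x) : Set X.scheme)),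
    isOpen_biUnion fun x _ => (O x).isOpen.sdiff (ptsC X (S.erase x)).isClosed⟩

variable {S : Finset (X.cdPt k)} {O : X.cdPt k → X.scheme.Opens}

theorem mem_sepOpen {z : X.scheme} :
    z ∈ sepOpen X S O ↔ ∃ x ∈ S, z ∈ O x ∧ ∀ y ∈ S, y ≠ x → z ∉ ptC X y.1 := by
  classical
  rw [← SetLike.mem_coe, sepOpen, Opens.coe_mk, Set.mem_iUnion₂]
  constructor
  · rintro ⟨x, hx, hz, hz'⟩
    exact ⟨x, hx, hz, fun y hy hyx h =>
      hz' ((mem_ptsC X).2 ⟨y, Finset.mem_erase.2 ⟨hyx, hy⟩, h⟩)⟩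
  · rintro ⟨x, hx, hz, h⟩
    refine ⟨x, hx, hz, fun h' => ?_⟩
    obtain ⟨y, hy, hzy⟩ := (mem_ptsC X).1 h'
    exact h y (Finset.mem_of_mem_erase hy) (Finset.ne_of_mem_erase hy) hzy

theorem self_mem_sepOpen {x : X.cdPt k} (hx : x ∈ S) (hO : x.1 ∈ O x) : x.1 ∈ sepOpen X S O :=
  (mem_sepOpen X).2 ⟨x, hx, hO, fun y _ hyx => not_mem_ptC X (x.2.trans y.2.symm)
    fun e => hyx (Subtype.ext e.symm)⟩

theorem mem_open_of_mem_sepOpen {x : X.cdPt k} (hx : x ∈ S) {z : X.scheme}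
    (hz : z ∈ sepOpen X S O) (hzx : z ∈ ptC X x.1) : z ∈ O x := by
  obtain ⟨y, _, hzy, h⟩ := (mem_sepOpen X).1 hz
  by_contra hn
  exact h x hx (fun e => hn (e ▸ hzy)) hzx

theorem eq_of_mem_sepOpen {x y : X.cdPt k} (hx : x ∈ S) (hy : y ∈ S) {z : X.scheme}
    (hz : z ∈ sepOpen X S O) (hzx : z ∈ ptC X x.1) (hzy : z ∈ ptC X y.1) : x = y := by
  obtain ⟨w, _, -, h⟩ := (mem_sepOpen X).1 hz
  have hxw : x = w := by_contra fun e => h x hx e hzx
  have hyw : y = w := by_contra fun e => h y hy e hzy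
  rw [hxw, hyw]

/-- the traces on an open of the closures of the points are disjoint -/
def Sep (S : Finset (X.cdPt k)) (W : X.scheme.Opens) : Prop :=
  ∀ x ∈ S, ∀ y ∈ S, ∀ z ∈ W, z ∈ ptC X x.1 → z ∈ ptC X y.1 → x = y

theorem dim_pc_ptsC (hS : S.Nonempty) {W : X.scheme.Opens} (hW : ∀ x ∈ S, x.1 ∈ W) :
    WeilCoh.dim ((pc X (ptsC X S) W : (clSub X (ptsC X S)).scheme.Opens) : Scheme.{u}) + k =
      WeilCoh.dim X.scheme := by
  obtain ⟨x, hx⟩ := hS
  have hxk := (codim_eq_iff X x.1 k).1 x.2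
  have hp : ∀ z : (pc X (ptsC X S) W : Scheme.{u}),
      WeilCoh.pdim ((clSub X (ptsC X S)).res (pc X (ptsC X S) W)).scheme z =
        WeilCoh.pdim X.scheme (clι X (ptsC X S) ((pc X (ptsC X S) W).ι z)) := fun z => by
    rw [pdim_res, pdim_of_isClosedImmersion (X := clSub X (ptsC X S)) (Y := X)]
  have h1 : WeilCoh.dim ((pc X (ptsC X S) W : (clSub X (ptsC X S)).scheme.Opens) : Scheme.{u}) ≤
      WeilCoh.dim X.scheme - k := by
    refine dim_le_of_forall ((clSub X (ptsC X S)).res (pc X (ptsC X S) W)) _ fun z => ?_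
    rw [hp]
    have h := le_codim_of_mem_ptsC X (clι_mem X (ptsC X S) ((pc X (ptsC X S) W).ι z))
    have := pdim_le_dim X (clι X (ptsC X S) ((pc X (ptsC X S) W).ι z))
    unfold WeilCoh.codim at h
    omega
  obtain ⟨z, hz⟩ := exists_clι_eq X (ptsC X S) (ptC_le_ptsC X hx (mem_ptC_self X x.1))
  have hzW : z ∈ pc X (ptsC X S) W := show clι X _ z ∈ W from hz ▸ hW x hx
  have h2 : WeilCoh.pdim X.scheme x.1 ≤
      WeilCoh.dim ((pc X (ptsC X S) W : (clSub X (ptsC X S)).scheme.Opens) : Scheme.{u}) := by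
    rw [← hz]
    exact (hp ⟨z, hzW⟩).ge.trans
      (pdim_le_dim ((clSub X (ptsC X S)).res (pc X (ptsC X S) W)) ⟨z, hzW⟩)
  omega

theorem relCodim_ptsC (hS : S.Nonempty) {W : X.scheme.Opens} (hW : ∀ x ∈ S, x.1 ∈ W) {m : ℕ}
    (hWm : BMCoh.ContainsFj X m W) :
    BMCoh.relCodim ((pc X (ptsC X S) W : (clSub X (ptsC X S)).scheme.Opens) : Scheme.{u})
      (W : Scheme.{u}) = (k : ℤ) := by
  rw [BMCoh.relCodim, dim_eq_of_containsFj X hWm]
  have := dim_pc_ptsC X hS hW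
  omega

theorem isOpen_range_pcIncl {W : X.scheme.Opens} (hsep : Sep X S W) {x : X.cdPt k} (hx : x ∈ S) :
    IsOpen (Set.range (pcIncl X (ptC_le_ptsC X hx) W)) := by
  classical
  have h : Set.range (pcIncl X (ptC_le_ptsC X hx) W) =
      ((fun y => clι X (ptsC X S) ((pc X (ptsC X S) W).ι y)) ⁻¹'
        (ptsC X (S.erase x) : Set X.scheme))ᶜ := by
    ext y
    rw [mem_range_pcIncl, Set.mem_compl_iff, Set.mem_preimage, SetLike.mem_coe, mem_ptsC]
    constructor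
    · rintro h ⟨w, hw, hyw⟩
      exact Finset.ne_of_mem_erase hw
        (hsep w (Finset.mem_of_mem_erase hw) x hx _ y.2 hyw h)
    · intro h
      obtain ⟨w, hw, hyw⟩ := (mem_ptsC X).1 (clι_mem X (ptsC X S) ((pc X (ptsC X S) W).ι y))
      by_cases hwx : w = x
      · exact hwx ▸ hyw
      · exact absurd ⟨w, Finset.mem_erase.2 ⟨hwx, hw⟩, hyw⟩ h
  rw [h]
  exact ((ptsC X (S.erase x)).isClosed.preimage
    ((clι X (ptsC X S)).continuous.comp (pc X (ptsC X S) W).ι.continuous)).isOpen_compl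

/-- the piece of one point as a closed-open piece of the union -/
def pieceHom {W : X.scheme.Opens} (hsep : Sep X S W) (hW : ∀ x ∈ S, x.1 ∈ W) (x : X.cdPt k)
    (hx : x ∈ S) :
    (X.ptSub x.1).res (pc X (ptC X x.1) W) ⟶ (clSub X (ptsC X S)).res (pc X (ptsC X S) W) :=
  ⟨pcIncl X (ptC_le_ptsC X hx) W, by
    have := isReduced_clSub X (ptsC X S)
    exact isOpenImmersion_of_isClosedImmersion _ (isOpen_range_pcIncl X hsep hx), by
    have h1 := dim_pc X x.1 (hW x hx)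
    have h2 := dim_pc_ptsC X ⟨x, hx⟩ hW
    have h3 := (codim_eq_iff X x.1 k).1 x.2
    show WeilCoh.dim ((pc X (ptC X x.1) W : (X.ptSub x.1).scheme.Opens) : Scheme.{u}) =
      WeilCoh.dim ((pc X (ptsC X S) W : (clSub X (ptsC X S)).scheme.Opens) : Scheme.{u})
    omega⟩

instance {W : X.scheme.Opens} (hsep : Sep X S W) (hW : ∀ x ∈ S, x.1 ∈ W) (x : X.cdPt k)
    (hx : x ∈ S) : IsClosedImmersion (pieceHom X hsep hW x hx).hom :=
  inferInstanceAs (IsClosedImmersion (pcIncl X (ptC_le_ptsC X hx) W))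

theorem pieceHom_pcι {W : X.scheme.Opens} (hsep : Sep X S W) (hW : ∀ x ∈ S, x.1 ∈ W)
    (x : X.cdPt k) (hx : x ∈ S) :
    (pieceHom X hsep hW x hx).hom ≫ pcι X (ptsC X S) W = pcι X (ptC X x.1) W :=
  pcIncl_ι X _ W

theorem disjoint_range_pieceHom {W : X.scheme.Opens} (hsep : Sep X S W) (hW : ∀ x ∈ S, x.1 ∈ W)
    {x y : X.cdPt k} (hx : x ∈ S) (hy : y ∈ S) (hne : x ≠ y) :
    Disjoint (Set.range (pieceHom X hsep hW x hx).hom) (Set.range (pieceHom X hsep hW y hy).hom) := by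
  rw [Set.disjoint_left]
  intro z hzx hzy
  exact hne (hsep x hx y hy _ z.2 ((mem_range_pcIncl X (ptC_le_ptsC X hx) W z).1 hzx)
    ((mem_range_pcIncl X (ptC_le_ptsC X hy) W z).1 hzy))

theorem exists_mem_range_pieceHom {W : X.scheme.Opens} (hsep : Sep X S W)
    (hW : ∀ x ∈ S, x.1 ∈ W) (z : (pc X (ptsC X S) W : Scheme.{u})) :
    ∃ x : ↥S, z ∈ Set.range (pieceHom X hsep hW x.1 x.2).hom := by
  obtain ⟨w, hw, hyw⟩ := (mem_ptsC X).1 (clι_mem X (ptsC X S) ((pc X (ptsC X S) W).ι z))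
  exact ⟨⟨w, hw⟩, (mem_range_pcIncl X (ptC_le_ptsC X hw) W z).2 hyw⟩

end geometry

variable {R : Type u} [CommRing R] {A : BMCoh.Coefs R} (T : BMCoh.PreTheory V R A)
  (X : BMCoh.Obj V) {M : A.Cat} {i n i' n' : ℤ} {j k : ℕ}

theorem push_congr {Y Z : BMCoh.Obj V} {f f' : Y.scheme ⟶ Z.scheme} [IsProper f] [IsProper f']
    (e : f = f') (hi : i' = i + 2 * BMCoh.relCodim Y.scheme Z.scheme)
    (hn : n' = n + BMCoh.relCodim Y.scheme Z.scheme) :
    T.push f M i n i' n' hi hn = T.push f' M i n i' n' hi hn := by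
  subst e; rfl

theorem push_cpush {P Z Y : BMCoh.Obj V} (g : P ⟶ Z) [IsProper g.hom] (f : Z.scheme ⟶ Y.scheme)
    [IsProper f] (h : P.scheme ⟶ Y.scheme) [IsProper h] (e : g.hom ≫ f = h)
    (hi : i' = i + 2 * BMCoh.relCodim Z.scheme Y.scheme)
    (hn : n' = n + BMCoh.relCodim Z.scheme Y.scheme)
    (hi' : i' = i + 2 * BMCoh.relCodim P.scheme Y.scheme)
    (hn' : n' = n + BMCoh.relCodim P.scheme Y.scheme) (b : T.gp P M i n) :
    (T.push f M i n i' n' hi hn).hom ((cpush T g M i n).hom b) =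
      (T.push h M i n i' n' hi' hn').hom b := by
  rw [← push_congr T e hi' hn']
  exact congr($(T.push_comp g.hom f M i n i n i' n' _ _ hi hn hi' hn') b)

/-- push forward from the union of pieces is the sum of the push forwards from the pieces -/
theorem push_ptsC_eq_sum {S : Finset (X.cdPt k)} (hS : S.Nonempty) {W : X.scheme.Opens}
    (hsep : Sep X S W) {m : ℕ} (hWm : BMCoh.ContainsFj X m W) (hW : ∀ x ∈ S, x.1 ∈ W)
    (hi : i' = i + 2 * (k : ℤ)) (hn : n' = n + (k : ℤ))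
    (z : T.gp ((clSub X (ptsC X S)).res (pc X (ptsC X S) W)) M i n) :
    (T.push (X := (clSub X (ptsC X S)).res (pc X (ptsC X S) W)) (Y := X.res W)
        (pcι X (ptsC X S) W) M i n i' n'
        (by show i' = i + 2 * BMCoh.relCodim _ _; rw [relCodim_ptsC X hS hW hWm]; exact hi)
        (by show n' = n + BMCoh.relCodim _ _; rw [relCodim_ptsC X hS hW hWm]; exact hn)).hom z =
      ∑ x ∈ S.attach, (pcPush T X (hW x.1 x.2) hWm x.1.2 M i n i' n' hi hn).hom
        ((T.pull (pieceHom X hsep hW x.1 x.2) M i n).hom z) := by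
  conv_lhs => rw [eq_sum_cpush_pull T S.attach hS.attach
    (fun x : ↥S => (X.ptSub x.1.1).res (pc X (ptC X x.1.1) W))
    (fun x => pieceHom X hsep hW x.1 x.2)
    (fun x _ y _ hne => disjoint_range_pieceHom X hsep hW x.2 y.2 fun e => hne (Subtype.ext e))
    (fun z => by
      obtain ⟨x, hx⟩ := exists_mem_range_pieceHom X hsep hW z
      exact ⟨x, Finset.mem_attach _ _, hx⟩) z]
  rw [map_sum]
  refine Finset.sum_congr rfl fun x _ => ?_
  exact push_cpush T (pieceHom X hsep hW x.1 x.2) (pcι X (ptsC X S) W) (pcι X (ptC X x.1.1) W)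
    (pieceHom_pcι X hsep hW x.1 x.2) _ _ _ _ _

theorem containsFj_oMinus_ptsC {S : Finset (X.cdPt (j + 1))} {W : X.scheme.Opens}
    (hW : BMCoh.ContainsFj X (j + 1) W) : BMCoh.ContainsFj X j (oMinus X W (ptsC X S)) :=
  containsFj_oMinus X (BMCoh.containsFj_mono X (Nat.le_succ j) _ hW)
    (fun _ hy => le_codim_of_mem_ptsC X hy) (Nat.lt_succ_self j)

/-- the cut by the union of the closures of finitely many points -/
abbrev cutS (S : Finset (X.cdPt (j + 1))) (W : X.scheme.Opens)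
    (hWj : BMCoh.ContainsFj X (j + 1) W) : BMCoh.Decomp (X.res W) :=
  cut X (ptsC X S) (oMinus_le X W (ptsC X S))
    ((dim_eq_of_containsFj X (containsFj_oMinus_ptsC X hWj)).trans
      (dim_eq_of_containsFj X hWj).symm) rfl

theorem codim_cutS {S : Finset (X.cdPt (j + 1))} (hS : S.Nonempty) {W : X.scheme.Opens}
    (hWj : BMCoh.ContainsFj X (j + 1) W) (hW : ∀ x ∈ S, x.1 ∈ W) :
    (cutS X S W hWj).codim = (j : ℤ) + 1 := by
  show BMCoh.relCodim _ _ = _
  rw [relCodim_ptsC X hS hW hWj]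
  push_cast
  rfl

theorem resData_cpt_cutS (Q : T.ResData X j) {S : Finset (X.cdPt (j + 1))} {W : X.scheme.Opens}
    (hsep : Sep X S W) (hWj : BMCoh.ContainsFj X (j + 1) W) (hW : ∀ x ∈ S, x.1 ∈ W)
    (x : X.cdPt (j + 1)) (hx : x ∈ S)
    (hi : i' = i + 1 - 2 * ((j : ℤ) + 1)) (hn : n' = n - ((j : ℤ) + 1))
    (hiD : i' = i + 1 - 2 * (cutS X S W hWj).codim) (hnD : n' = n - (cutS X S W hWj).codim)
    (a : T.gp (X.res (oMinus X W (ptsC X S))) M i n) :
    (Q.cpt x M i n i' n' hi hn).hom (((T.fjι X j i n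
        (fIdx X j _ (containsFj_oMinus_ptsC X hWj))).app M).hom a) =
      ((T.ptι X x.1 i' n' (pIdx X x.1 W (hW x hx))).app M).hom
        ((T.pull (pieceHom X hsep hW x hx) M i' n').hom
          ((T.res (cutS X S W hWj) M i n i' n' hiD hnD).hom a)) := by
  have h := congr($(Q.cpt_spec x M i n i' n' hi hn (Y := X.res W)
    (X.resι W (dim_eq_of_containsFj X hWj)) (cutS X S W hWj) (pIdx X x.1 W (hW x hx))
    (pieceHom X hsep hW x hx) (by
      show (pieceHom X hsep hW x hx).hom ≫ pcι X (ptsC X S) W ≫ W.ι = _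
      rw [← Category.assoc, pieceHom_pcι]
      exact pcι_ι X (ptC X x.1) W)
    (fIdx X j _ (containsFj_oMinus_ptsC X hWj)) (𝟙 _) (by
      show 𝟙 _ ≫ X.scheme.homOfLE (oMinus_le X W (ptsC X S)) ≫ W.ι = (oMinus X W (ptsC X S)).ι
      rw [Category.id_comp, Scheme.homOfLE_ι])
    hiD hnD) a)
  simp only [ModuleCat.hom_comp, LinearMap.comp_apply] at h
  rw [pull_id] at h
  exact h

theorem eq_sum_lof [DecidableEq (X.cdPt k)] (ξ : T.ptSum X k M i n) (S : Finset (X.cdPt k))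
    (h : ∀ x ∉ S, ξ x = 0) :
    ξ = ∑ x ∈ S, DirectSum.lof R (X.cdPt k) (fun y : X.cdPt k => T.ptGp X y.1 M i n) x (ξ x) := by
  refine DFinsupp.ext fun y => ?_
  refine Eq.trans ?_ (DFinsupp.finsetSum_apply (β := fun y : X.cdPt k => T.ptGp X y.1 M i n) S
    (fun x => DirectSum.lof R (X.cdPt k) (fun y : X.cdPt k => T.ptGp X y.1 M i n) x (ξ x)) y).symm
  simp only [DirectSum.lof_eq_of]
  by_cases hy : y ∈ S
  · rw [Finset.sum_eq_single_of_mem y hy fun b _ hb => DirectSum.of_eq_of_ne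
      (β := fun y : X.cdPt k => T.ptGp X y.1 M i n) b y (ξ b) (Ne.symm hb)]
    exact (DirectSum.of_eq_same (β := fun y : X.cdPt k => T.ptGp X y.1 M i n) y (ξ y)).symm
  · rw [h y hy]
    exact (Finset.sum_eq_zero fun b hb => DirectSum.of_eq_of_ne
      (β := fun y : X.cdPt k => T.ptGp X y.1 M i n) b y (ξ b)
      (fun e => hy (e ▸ hb))).symm

theorem exists_finset_support (ξ : T.ptSum X k M i n) :
    ∃ S : Finset (X.cdPt k), ∀ x ∉ S, ξ x = 0 := by
  classical
  exact ⟨DFinsupp.support ξ, fun x hx => DFinsupp.notMem_support_iff.1 hx⟩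

theorem sum_lof_apply [DecidableEq (X.cdPt k)] {N : ModuleCat.{u} R}
    (f : T.ptSum X k M i n ⟶ N) (ξ : T.ptSum X k M i n) (S : Finset (X.cdPt k))
    (h : ∀ x ∉ S, ξ x = 0) :
    f.hom ξ = ∑ x ∈ S, f.hom
      (DirectSum.lof R (X.cdPt k) (fun y : X.cdPt k => T.ptGp X y.1 M i n) x (ξ x)) := by
  conv_lhs => rw [eq_sum_lof T X ξ S h]
  rw [map_sum]

/-- finitely many classes of points on pieces in one open, given neighbourhoods -/
theorem exists_common_rep (_S : Finset (X.cdPt k)) (ξ : T.ptSum X k M i n)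
    (O0 : X.cdPt k → X.scheme.Opens) (h0 : ∀ x : X.cdPt k, x.1 ∈ O0 x) :
    ∃ O : X.cdPt k → X.scheme.Opens, (∀ x : X.cdPt k, O x ≤ O0 x) ∧
      ∃ hO : ∀ x : X.cdPt k, x.1 ∈ O x,
      ∃ b : ∀ x : X.cdPt k, T.gp ((X.ptSub x.1).res (pIdx X x.1 (O x) (hO x)).1) M i n,
        ∀ x : X.cdPt k,
          ((T.ptι X x.1 i n (pIdx X x.1 (O x) (hO x))).app M).hom (b x) = ξ x := by
  have : ∀ x : X.cdPt k, ∃ (O : X.scheme.Opens) (h : x.1 ∈ O)
      (b : T.gp ((X.ptSub x.1).res (pIdx X x.1 O h).1) M i n),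
      O ≤ O0 x ∧ ((T.ptι X x.1 i n (pIdx X x.1 O h)).app M).hom b = ξ x := fun x => by
    let e : T.ptGp X x.1 M i n := ξ x
    obtain ⟨W, b, hb⟩ := oc_rep T i n M (idxDir_pt X x.1) e
    obtain ⟨O, hxO, rfl⟩ := exists_pIdx_eq X x.1 W
    have hle : pIdx X x.1 (O ⊓ O0 x) ⟨hxO, h0 x⟩ ≤ pIdx X x.1 O hxO := pc_mono X _ inf_le_left
    exact ⟨O ⊓ O0 x, ⟨hxO, h0 x⟩, (T.pull (ilink hle) M i n).hom b, inf_le_right,
      (oc_ι_pull T hle b).trans hb⟩
  choose O hO b hle hb using this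
  exact ⟨O, hle, hO, b, hb⟩

theorem exact_resTot_pushTot (Q : T.ResData X j) (P : T.PushData X (j + 1))
    (hi : i' = i + 1 - 2 * ((j : ℤ) + 1)) (hn : n' = n - ((j : ℤ) + 1))
    (hi2 : i + 1 = i' + 2 * ((j + 1 : ℕ) : ℤ)) (hn2 : n = n' + ((j + 1 : ℕ) : ℤ)) :
    Function.Exact (Q.tot M i n i' n' hi hn).hom (P.tot M i' n' (i + 1) n hi2 hn2).hom := by
  classical
  intro ξ
  constructor
  · intro h
    obtain ⟨S, hS⟩ := exists_finset_support T X ξ
    rcases S.eq_empty_or_nonempty with rfl | hSne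
    · refine ⟨0, ?_⟩
      rw [map_zero]
      exact DFinsupp.ext fun x => (hS x (Finset.notMem_empty x)).symm
    obtain ⟨O, -, hO, b, hb⟩ := exists_common_rep T X S ξ (fun _ => ⊤) (fun _ => trivial)
    let W0 : X.scheme.Opens := oMinus X ⊤ (ptsC X S) ⊔ sepOpen X S O
    have hW0S : ∀ x ∈ S, x.1 ∈ W0 := fun x hx => Or.inr (self_mem_sepOpen X hx (hO x))
    have hW0 : BMCoh.ContainsFj X (j + 1) W0 := fun y hy => by
      by_cases hyS : y ∈ ptsC X S
      · obtain ⟨x, hx, hyx⟩ := (mem_ptsC X).1 hyS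
        exact eq_of_mem_ptC_of_codim_le X hyx (hy.trans x.2.ge) ▸ hW0S x hx
      · exact Or.inl ⟨trivial, hyS⟩
    have hsep0 : ∀ {z}, z ∈ W0 → z ∈ ptsC X S → z ∈ sepOpen X S O := by
      intro z hz hzS
      rcases hz with hz | hz
      · exact absurd hzS hz.2
      · exact hz
    have hp : ∀ x : ↥S, pIdx X x.1.1 W0 (hW0S x.1 x.2) ≤ pIdx X x.1.1 (O x.1) (hO x.1) :=
      fun x z hz => mem_open_of_mem_sepOpen X x.2
        (hsep0 hz (ptC_le_ptsC X x.2 (clι_mem X (ptC X x.1.1) z))) (clι_mem X (ptC X x.1.1) z)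
    have hsum : ((T.fjι X (j + 1) (i + 1) n (fIdx X (j + 1) W0 hW0)).app M).hom
        (∑ x ∈ S.attach, (pcPush T X (hW0S x.1 x.2) hW0 x.1.2 M i' n' (i + 1) n hi2 hn2).hom
          ((T.pull (ilink (hp x)) M i' n').hom (b x.1))) = 0 := by
      rw [← h, sum_lof_apply T X (P.tot M i' n' (i + 1) n hi2 hn2) ξ S hS, map_sum,
        ← Finset.sum_attach S]
      refine Finset.sum_congr rfl fun x _ => ?_
      rw [P.tot_lof, ← hb x.1, ← oc_ι_pull T (hp x) (b x.1),
        pushData_cpt_ptι T X P x.1 (hW0S x.1 x.2) hW0 hi2 hn2]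
    obtain ⟨W, hle, hW⟩ := oc_eq_zero T (idxDir_fj X (j + 1))
      (U := fIdx X (j + 1) W0 hW0) _ hsum
    obtain ⟨W, hWj, hWd⟩ := W
    have hWS : ∀ x ∈ S, x.1 ∈ W := fun x _ => hWj x.1 x.2.le
    have hsep : Sep X S W := fun x hx y hy z hz hzx hzy =>
      eq_of_mem_sepOpen X hx hy (hsep0 (hle hz) (ptC_le_ptsC X hx hzx)) hzx hzy
    let w : ∀ x : ↥S, T.gp ((X.ptSub x.1.1).res (pc X (ptC X x.1.1) W)) M i' n' := fun x =>
      (T.pull (ilink (show pIdx X x.1.1 W (hWS x.1 x.2) ≤ pIdx X x.1.1 W0 (hW0S x.1 x.2) from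
        pc_mono X _ hle)) M i' n').hom ((T.pull (ilink (hp x)) M i' n').hom (b x.1))
    let z := ∑ x ∈ S.attach, (cpush T (pieceHom X hsep hWS x.1 x.2) M i' n').hom (w x)
    have hz : ∀ x : ↥S, (T.pull (pieceHom X hsep hWS x.1 x.2) M i' n').hom z = w x := fun x =>
      pull_sum_cpush T S.attach (fun y : ↥S => (X.ptSub y.1.1).res (pc X (ptC X y.1.1) W))
        (fun y => pieceHom X hsep hWS y.1 y.2)
        (fun p _ q _ hne => disjoint_range_pieceHom X hsep hWS p.2 q.2 fun e => hne (Subtype.ext e))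
        w (Finset.mem_attach _ x)
    have hc := codim_cutS X hSne hWj hWS
    have hiD : i' = i + 1 - 2 * (cutS X S W hWj).codim := by rw [hc]; exact hi
    have hnD : n' = n - (cutS X S W hWj).codim := by rw [hc]; exact hn
    have hpz : (T.push (cutS X S W hWj).i M i' n' (i + 1) n
        (by show _ = _ + 2 * BMCoh.relCodim _ _; rw [relCodim_ptsC X hSne hWS hWj]; exact hi2)
        (by show _ = _ + BMCoh.relCodim _ _; rw [relCodim_ptsC X hSne hWS hWj]; exact hn2)).hom z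
          = 0 := by
      refine (push_ptsC_eq_sum T X hSne hsep hWj hWS hi2 hn2 z).trans ?_
      rw [map_sum] at hW
      refine Eq.trans (Finset.sum_congr rfl fun x _ => ?_) hW
      rw [hz x]
      exact (pull_pcPush T X (hW0S x.1 x.2) (hWS x.1 x.2) hW0 hWj x.1.2 hle hi2 hn2 _).symm
    obtain ⟨a, ha⟩ := (T.exact_res_push (cutS X S W hWj) M i n i' n' hiD hnD _ _ z).1 hpz
    refine ⟨((T.fjι X j i n (fIdx X j _ (containsFj_oMinus_ptsC X hWj))).app M).hom a,
      DFinsupp.ext fun x => ?_⟩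
    rw [BMCoh.PreTheory.ResData.tot_apply]
    by_cases hx : x ∈ S
    · rw [resData_cpt_cutS T X Q hsep hWj hWS x hx hi hn hiD hnD a, ha, hz ⟨x, hx⟩]
      simp only [w]
      rw [oc_ι_pull, oc_ι_pull]
      exact hb x
    · rw [hS x hx]
      refine resData_cpt_eq_zero_of_mem T X Q x (fIdx X j _ (containsFj_oMinus_ptsC X hWj))
        ⟨hWj x.1 x.2.le, fun h' => ?_⟩ hi hn a
      obtain ⟨y, hy, hxy⟩ := (mem_ptsC X).1 h'
      exact hx (Subtype.ext (eq_of_mem_ptC_of_codim_le X hxy (x.2.trans y.2.symm).le) ▸ hy)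
  · rintro ⟨η, rfl⟩
    obtain ⟨U, a, rfl⟩ := oc_rep T i n M (idxDir_fj X j) η
    obtain ⟨U, hU, hUd⟩ := U
    let C : Closeds X.scheme := ⟨(U : Set X.scheme)ᶜ, U.isOpen.isClosed_compl⟩
    obtain ⟨hfin, hiso⟩ := exists_isolating X C (k := j + 1)
      fun _ hy => succ_le_codim_of_not_mem X hU hy
    have hfin' : {x : X.cdPt (j + 1) | x.1 ∉ U}.Finite :=
      (hfin.preimage Subtype.val_injective.injOn).subset fun x hx => ⟨hx, x.2⟩
    let S := hfin'.toFinset
    have hmem : ∀ x, x ∈ S ↔ x.1 ∉ U := fun x => Set.Finite.mem_toFinset _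
    have hzero : ∀ x ∉ S,
        (Q.tot M i n i' n' hi hn).hom (((T.fjι X j i n ⟨U, hU, hUd⟩).app M).hom a) x = 0 :=
      fun x hx => by
        rw [BMCoh.PreTheory.ResData.tot_apply]
        exact resData_cpt_eq_zero_of_mem T X Q x _ (by_contra fun h => hx ((hmem x).2 h)) hi hn a
    rw [sum_lof_apply T X (P.tot M i' n' (i + 1) n hi2 hn2) _ S hzero]
    rcases S.eq_empty_or_nonempty with hSe | hSne
    · rw [hSe, Finset.sum_empty]
    have hO : ∀ x : X.cdPt (j + 1), ∃ O : X.scheme.Opens,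
        x.1 ∈ O ∧ (x ∈ S → ∀ z ∈ O, z ∈ C → z ∈ ptC X x.1) := fun x => by
      by_cases hx : x ∈ S
      · obtain ⟨O, h1, h2⟩ := hiso x.1 ((hmem x).1 hx) x.2
        exact ⟨O, h1, fun _ => h2⟩
      · exact ⟨⊤, trivial, fun h => absurd h hx⟩
    choose O hO1 hO2 using hO
    let W : X.scheme.Opens := U ⊔ sepOpen X S O
    have hWS : ∀ x ∈ S, x.1 ∈ W := fun x hx => Or.inr (self_mem_sepOpen X hx (hO1 x))
    have hWj : BMCoh.ContainsFj X (j + 1) W := fun y hy => by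
      by_cases hyU : y ∈ U
      · exact Or.inl hyU
      · have := succ_le_codim_of_not_mem X hU hyU
        exact hWS ⟨y, le_antisymm hy this⟩ ((hmem _).2 hyU)
    have hdisj : ∀ {z}, z ∈ U → z ∉ ptsC X S := fun hz h' => by
      obtain ⟨x, hx, hzx⟩ := (mem_ptsC X).1 h'
      exact disjoint_ptC_of_not_mem X ((hmem x).1 hx) hz hzx
    have hsep : Sep X S W := fun x hx y hy z hz hzx hzy => by
      rcases hz with hz | hz
      · exact absurd (ptC_le_ptsC X hx hzx) (hdisj hz)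
      · exact eq_of_mem_sepOpen X hx hy hz hzx hzy
    have hU0 : oMinus X W (ptsC X S) ≤ U := by
      rintro z ⟨hz | hz, hzS⟩
      · exact hz
      · obtain ⟨x, hx, hzx, -⟩ := (mem_sepOpen X).1 hz
        by_contra hzU
        exact hzS (ptC_le_ptsC X hx (hO2 x hx z hzx hzU))
    let a0 := (T.pull (ilink (show fIdx X j _ (containsFj_oMinus_ptsC X hWj) ≤ fIdx X j U hU from
      hU0)) M i n).hom a
    have hη : ((T.fjι X j i n (fIdx X j _ (containsFj_oMinus_ptsC X hWj))).app M).hom a0 =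
        ((T.fjι X j i n ⟨U, hU, hUd⟩).app M).hom a :=
      oc_ι_pull T (U := fIdx X j _ (containsFj_oMinus_ptsC X hWj)) (U' := fIdx X j U hU) hU0 a
    have hc := codim_cutS X hSne hWj hWS
    have hiD : i' = i + 1 - 2 * (cutS X S W hWj).codim := by rw [hc]; exact hi
    have hnD : n' = n - (cutS X S W hWj).codim := by rw [hc]; exact hn
    have hiR : i + 1 = i' + 2 * BMCoh.relCodim (cutS X S W hWj).Z.scheme (X.res W).scheme := by
      show _ = _ + 2 * BMCoh.relCodim _ _; rw [relCodim_ptsC X hSne hWS hWj]; exact hi2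
    have hnR : n = n' + BMCoh.relCodim (cutS X S W hWj).Z.scheme (X.res W).scheme := by
      show _ = _ + BMCoh.relCodim _ _; rw [relCodim_ptsC X hSne hWS hWj]; exact hn2
    have h0 := (T.exact_res_push (cutS X S W hWj) M i n i' n' hiD hnD hiR
      hnR).apply_apply_eq_zero a0
    have h1 := ((push_ptsC_eq_sum T X hSne hsep hWj hWS hi2 hn2 _).symm.trans h0)
    have h2 := congrArg ((T.fjι X (j + 1) (i + 1) n (fIdx X (j + 1) W hWj)).app M).hom h1
    rw [map_sum, map_zero] at h2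
    rw [← Finset.sum_attach S]
    refine Eq.trans (Finset.sum_congr rfl fun x _ => ?_) h2
    rw [P.tot_lof, BMCoh.PreTheory.ResData.tot_apply, ← hη,
      resData_cpt_cutS T X Q hsep hWj hWS x.1 x.2 hi hn hiD hnD a0,
      pushData_cpt_ptι T X P x.1 (hWS x.1 x.2) hWj hi2 hn2]

end Groth.Agent.BMCohLib
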